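import Mathlib
import Cfsg.Prelude.Def_Characters

/-!
# S4756 farm: shared definitions (architect helper24)

`CopPair x y`: the orders of `x`, `y` are powers of two different primes.
`Hyp1 G`: condition (1) of S4756.
`VanishOff χ p`: `χ` vanishes at every nonidentity element whose order is a power of a prime
other than `p`.
-/

set_option autoImplicit false

namespace Cfsg.Agent.Lib.Helper24.CM

/-- The orders of `x` and `y` are powers of two different primes. -/
def CopPair {G : Type*} [Group G] (x y : G) : Prop :=
  ∃ p q a b : ℕ, p.Prime ∧ q.Prime ∧ p ≠ q ∧ orderOf x = p ^ a ∧ orderOf y = q ^ b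

/-- Condition (1) of S4756: every irreducible character is multiplicative on pairs of
nonidentity elements whose orders are powers of two different primes. -/
def Hyp1 (G : Type*) [Group G] : Prop :=
  ∀ (x y : G) (χ : Cfsg.IrrCharacter G), x ≠ 1 → y ≠ 1 → CopPair x y →
    (χ : G → ℂ) (x * y) = (χ : G → ℂ) x * (χ : G → ℂ) y

/-- `χ` vanishes at every nonidentity element whose order is a power of a prime other
than `p`. -/
def VanishOff {G : Type*} [Group G] (χ : G → ℂ) (p : ℕ) : Prop :=
  ∀ (y : G) (q b : ℕ), y ≠ 1 → q.Prime → q ≠ p → orderOf y = q ^ b → χ y = 0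

end Cfsg.Agent.Lib.Helper24.CM
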