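import Mathlib
import Cfsg.Prelude.Def_Characters
import Cfsg.Agent.Lib.Helper24.CM.Defs
import Cfsg.Agent.S4755

/-!
# S4756 farm, leaf L01 (architect helper24)

Keep the name, namespace and statement of `vanish_mul` exactly; replace only the `sorry`
(auxiliary lemmas with fresh names may be added above it in this file; extra imports of files
already on main are fine).
-/

set_option autoImplicit false

namespace Cfsg.Agent.Lib.Helper24.CM

open scoped ComplexConjugate commutatorElement

/-- [L01] Under (1), a nonlinear irreducible character kills `χ x * χ y` on every admissible pair.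
Proof: apply `Cfsg.Agent.S4755.result x y hx hy` (its hypothesis follows from `h` applied to the
conjugates `a * x * a⁻¹`, `b * y * b⁻¹`, which are again nonidentity of the same orders); its second
conclusion gives `χ (x * y) = 0`, and `h x y χ hx hy hxy` gives `χ (x * y) = χ x * χ y`. -/
theorem vanish_mul {G : Type*} [Group G] [Finite G] (h : Hyp1 G) (x y : G) (hx : x ≠ 1)
    (hy : y ≠ 1) (hxy : CopPair x y) (χ : Cfsg.IrrCharacter G) (hχ : (χ : G → ℂ) 1 ≠ 1) :
    (χ : G → ℂ) x * (χ : G → ℂ) y = 0 := by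
  have hord : ∀ (a z : G), orderOf (a * z * a⁻¹) = orderOf z := by
    intro a z
    have := (MulAut.conj a).orderOf_eq z
    rwa [MulAut.conj_apply] at this
  have hne : ∀ (a z : G), z ≠ 1 → a * z * a⁻¹ ≠ 1 := by
    intro a z hz hc
    apply hz
    have h1 : a⁻¹ * (a * z * a⁻¹) * a = z := by group
    rw [← h1, hc]; group
  obtain ⟨p, q, a₀, b₀, hp, hq, hpq, hox, hoy⟩ := hxy
  have hyp : ∀ (a b : G) (ψ : Cfsg.IrrCharacter G),
      (ψ : G → ℂ) (a * x * a⁻¹ * (b * y * b⁻¹)) =
        (ψ : G → ℂ) (a * x * a⁻¹) * (ψ : G → ℂ) (b * y * b⁻¹) := by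
    intro a b ψ
    exact h (a * x * a⁻¹) (b * y * b⁻¹) ψ (hne a x hx) (hne b y hy)
      ⟨p, q, a₀, b₀, hp, hq, hpq, by rw [hord, hox], by rw [hord, hoy]⟩
  have h0 := (Cfsg.Agent.S4755.result x y hx hy hyp).2.1 χ hχ
  have h1 := h x y χ hx hy ⟨p, q, a₀, b₀, hp, hq, hpq, hox, hoy⟩
  rw [← h1, h0]

end Cfsg.Agent.Lib.Helper24.CM
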