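import Mathlib
import Cfsg.Prelude.Def_Characters
import Cfsg.Agent.Lib.Helper24.CM.Defs
import Cfsg.Agent.Lib.Helper27.S4018C

/-!
# S4756 farm, leaf L02 (architect helper24)

Keep the name, namespace and statement of `card_dvd_degree` exactly; replace only the `sorry`
(auxiliary lemmas with fresh names may be added above it in this file; extra imports of files
already on main are fine).
-/

set_option autoImplicit false

namespace Cfsg.Agent.Lib.Helper24.CM

open scoped ComplexConjugate commutatorElement

/-- [L02] If a character vanishes on the nonidentity elements of a subgroup `H`, then `|H|` divides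
its degree.  Proof: `Cfsg.Agent.Lib.Helper27.S4018C.exists_nat_sum_subgroup` gives
`∑ g : H, χ g = |H| * c`; the sum is `χ 1 = n`. -/
theorem card_dvd_degree {G : Type*} [Group G] [Finite G] {χ : G → ℂ}
    (hχ : Cfsg.IsCharacter G χ) (H : Subgroup G) (hv : ∀ x ∈ H, x ≠ 1 → χ x = 0) (n : ℕ)
    (hn : χ 1 = (n : ℂ)) : Nat.card H ∣ n := by
  classical
  letI : Fintype G := Fintype.ofFinite G
  letI : Fintype H := Fintype.ofFinite H
  obtain ⟨c, hc⟩ := Cfsg.Agent.Lib.Helper27.S4018C.exists_nat_sum_subgroup hχ H
  have hsum : ∑ g : H, χ (g : G) = (n : ℂ) := by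
    rw [Finset.sum_eq_single (1 : H)]
    · simpa using hn
    · intro b _ hb
      exact hv b b.2 (fun h => hb (Subtype.ext h))
    · intro h; exact absurd (Finset.mem_univ _) h
  rw [hsum] at hc
  refine ⟨c, ?_⟩
  exact_mod_cast hc

end Cfsg.Agent.Lib.Helper24.CM
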