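import Mathlib
import Cfsg.Prelude.Def_Characters
import Cfsg.Agent.Lib.Helper24.CM.Defs
import Cfsg.Agent.Lib.Helper25.LinearChar
import Cfsg.Agent.Lib.Helper25.Ortho2

/-!
# S4756 farm, leaf L03 (architect helper24)

Keep the name, namespace and statement of `degree_facts` exactly; replace only the `sorry`
(auxiliary lemmas with fresh names may be added above it in this file; extra imports of files
already on main are fine).
-/

set_option autoImplicit false

namespace Cfsg.Agent.Lib.Helper24.CM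

open scoped ComplexConjugate commutatorElement

/-- [L03] The degree of an irreducible character is a positive natural number `n`, and if `n ≠ 1`
then `n ^ 2 < |G|` (the trivial character `Cfsg.Agent.Lib.Helper25.isIrrCharacter_one` is a different
irreducible character, and `Cfsg.Agent.Lib.Helper25.second_orthogonality_self 1` says
`∑ χ, χ 1 * conj (χ 1) = |C_G(1)| = |G|`). -/
theorem degree_facts {G : Type*} [Group G] [Finite G] (χ : Cfsg.IrrCharacter G) :
    ∃ n : ℕ, (χ : G → ℂ) 1 = (n : ℂ) ∧ 0 < n ∧ (n ≠ 1 → n ^ 2 < Nat.card G) := by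
  classical
  haveI := Fintype.ofFinite G
  haveI : Fintype (Cfsg.IrrCharacter G) := Fintype.ofFinite _
  have hdeg : ∀ ψ : Cfsg.IrrCharacter G,
      (ψ : G → ℂ) 1 = ((Cfsg.charDegree (ψ : G → ℂ) : ℕ) : ℂ) := fun ψ =>
    Cfsg.Agent.Lib.Helper25.char_one_eq_charDegree
      (Cfsg.Agent.Lib.Helper25.isCharacter_of_irr ψ.2)
  refine ⟨Cfsg.charDegree (χ : G → ℂ), hdeg χ,
    Cfsg.Agent.Lib.Helper25.irr_degree_pos χ.2, ?_⟩
  intro hn1
  have hsum := Cfsg.Agent.Lib.Helper25.sum_degree_sq (G := G)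
  have hsum' : ∑ ψ : Cfsg.IrrCharacter G, (Cfsg.charDegree (ψ : G → ℂ)) ^ 2 = Nat.card G := by
    have h2 : ((∑ ψ : Cfsg.IrrCharacter G, (Cfsg.charDegree (ψ : G → ℂ)) ^ 2 : ℕ) : ℂ)
        = (Nat.card G : ℂ) := by
      rw [← hsum]
      push_cast
      apply Finset.sum_congr rfl
      intro ψ _
      rw [hdeg ψ]
      ring
    exact_mod_cast h2
  set one : Cfsg.IrrCharacter G := Cfsg.Agent.Lib.Helper25.irrOne G with hone
  have hone1 : Cfsg.charDegree (one : G → ℂ) = 1 := by
    have h := hdeg one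
    have h1 : (one : G → ℂ) 1 = 1 := rfl
    rw [h1] at h
    exact_mod_cast h.symm
  have hne : χ ≠ one := by
    intro h
    apply hn1
    rw [h]
    exact hone1
  have hle : ∑ ψ ∈ ({χ, one} : Finset (Cfsg.IrrCharacter G)), (Cfsg.charDegree (ψ : G → ℂ)) ^ 2
      ≤ ∑ ψ : Cfsg.IrrCharacter G, (Cfsg.charDegree (ψ : G → ℂ)) ^ 2 :=
    Finset.sum_le_sum_of_subset (Finset.subset_univ _)
  rw [Finset.sum_pair hne, hsum', hone1] at hle
  omega

end Cfsg.Agent.Lib.Helper24.CM
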