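import Mathlib
import Cfsg.Prelude.Def_Characters
import Cfsg.Agent.Lib.Helper24.CM.Defs
import Cfsg.Agent.Lib.Helper24.CM.L01

/-!
# S4756 farm, leaf L04 (architect helper24)

Keep the name, namespace and statement of `exists_vanishOff` exactly; replace only the `sorry`
(auxiliary lemmas with fresh names may be added above it in this file; extra imports of files
already on main are fine).
-/

set_option autoImplicit false

namespace Cfsg.Agent.Lib.Helper24.CM

open scoped ComplexConjugate commutatorElement

/-- [L04] Under (1), for a nonlinear irreducible `χ` there is a prime `p` such that `χ` vanishes at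
all nonidentity elements of prime power order for primes other than `p`.  Proof: if `χ x ≠ 0` for some
`x ≠ 1` with `orderOf x = p ^ a`, `p` prime, take this `p` and use `vanish_mul`; otherwise take `p = 2`. -/
theorem exists_vanishOff {G : Type*} [Group G] [Finite G] (h : Hyp1 G) (χ : Cfsg.IrrCharacter G)
    (hχ : (χ : G → ℂ) 1 ≠ 1) : ∃ p : ℕ, p.Prime ∧ VanishOff (χ : G → ℂ) p := by
  by_cases hex : ∃ (x : G) (p a : ℕ), x ≠ 1 ∧ p.Prime ∧ orderOf x = p ^ a ∧ (χ : G → ℂ) x ≠ 0
  · obtain ⟨x, p, a, hx, hp, hox, hχx⟩ := hex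
    refine ⟨p, hp, ?_⟩
    intro y q b hy hq hqp hoy
    have h0 := vanish_mul h x y hx hy ⟨p, q, a, b, hp, hq, fun e => hqp e.symm, hox, hoy⟩ χ hχ
    rcases mul_eq_zero.mp h0 with h1 | h1
    · exact absurd h1 hχx
    · exact h1
  · refine ⟨2, Nat.prime_two, ?_⟩
    intro y q b hy hq _ hoy
    by_contra hne
    exact hex ⟨y, q, b, hy, hq, hoy, hne⟩

end Cfsg.Agent.Lib.Helper24.CM
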