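import Mathlib
import Cfsg.Prelude.Def_Characters
import Cfsg.Agent.Lib.Helper24.CM.Defs
import Cfsg.Agent.Lib.Helper24.CM.L02

/-!
# S4756 farm, leaf L05 (architect helper24)

Keep the name, namespace and statement of `ordCompl_dvd_degree` exactly; replace only the `sorry`
(auxiliary lemmas with fresh names may be added above it in this file; extra imports of files
already on main are fine).
-/

set_option autoImplicit false

namespace Cfsg.Agent.Lib.Helper24.CM

open scoped ComplexConjugate commutatorElement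

/-- [L05] If `χ` is a character with `VanishOff χ p` then the `p'`-part of `|G|` divides `χ 1`.
Proof: for each prime `q ≠ p` and `Q : Sylow q G`, every `x ∈ Q`, `x ≠ 1`, has order a power of `q`,
so `card_dvd_degree` gives `q ^ v_q(|G|) = |Q| ∣ n`; conclude with
`Nat.factorization_prime_le_iff_dvd` (the case `n = 0` is trivial). -/
theorem ordCompl_dvd_degree {G : Type*} [Group G] [Finite G] {χ : G → ℂ}
    (hχ : Cfsg.IsCharacter G χ) (p : ℕ) (hp : p.Prime) (hv : VanishOff χ p) (n : ℕ)
    (hn : χ 1 = (n : ℂ)) : ordCompl[p] (Nat.card G) ∣ n := by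
  rcases Nat.eq_zero_or_pos n with h0 | hpos
  · rw [h0]; exact dvd_zero _
  have hn0 : n ≠ 0 := hpos.ne'
  have hN0 : Nat.card G ≠ 0 := Nat.card_pos.ne'
  have hd0 : ordCompl[p] (Nat.card G) ≠ 0 := (Nat.ordCompl_pos p hN0).ne'
  rw [← Nat.factorization_prime_le_iff_dvd hd0 hn0]
  intro q hq
  rw [Nat.factorization_ordCompl]
  by_cases hqp : q = p
  · rw [hqp, Finsupp.erase_same]; exact Nat.zero_le _
  · rw [Finsupp.erase_ne hqp]
    have : Fact q.Prime := ⟨hq⟩
    obtain ⟨Q⟩ := (inferInstance : Nonempty (Sylow q G))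
    have hcard : Nat.card (Q : Subgroup G) = q ^ (Nat.card G).factorization q :=
      Sylow.card_eq_multiplicity Q
    have hdvd : Nat.card (Q : Subgroup G) ∣ n := by
      apply card_dvd_degree hχ (Q : Subgroup G) _ n hn
      intro x hx hx1
      obtain ⟨k, hk⟩ := (IsPGroup.iff_orderOf.mp Q.2) ⟨x, hx⟩
      rw [Subgroup.orderOf_mk] at hk
      exact hv x q k hx1 hq hqp hk
    rw [hcard] at hdvd
    exact (hq.pow_dvd_iff_le_factorization hn0).mp hdvd

end Cfsg.Agent.Lib.Helper24.CM
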