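import Mathlib
import Cfsg.Prelude.Def_Characters
import Cfsg.Agent.Lib.Helper24.CM.Defs
import Cfsg.Agent.Lib.Helper24.CM.L03
import Cfsg.Agent.Lib.Helper24.CM.L05

/-!
# S4756 farm, leaf L06 (architect helper24)

Keep the name, namespace and statement of `ordCompl_lt_ordProj` exactly; replace only the `sorry`
(auxiliary lemmas with fresh names may be added above it in this file; extra imports of files
already on main are fine).
-/

set_option autoImplicit false

namespace Cfsg.Agent.Lib.Helper24.CM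

open scoped ComplexConjugate commutatorElement

/-- [L06] For a nonlinear irreducible `χ` with `VanishOff χ p`: the `p'`-part of `|G|` is smaller
than the `p`-part.  Proof: `degree_facts` gives `n` with `n ^ 2 < |G|`, `0 < n`; `ordCompl_dvd_degree`
gives `c := ordCompl[p] |G| ≤ n`; so `c * c ≤ n ^ 2 < |G| = ordProj[p] |G| * c`
(`Nat.ordProj_mul_ordCompl_eq_self`). -/
theorem ordCompl_lt_ordProj {G : Type*} [Group G] [Finite G] (χ : Cfsg.IrrCharacter G)
    (hχ : (χ : G → ℂ) 1 ≠ 1) (p : ℕ) (hp : p.Prime) (hv : VanishOff (χ : G → ℂ) p) :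
    ordCompl[p] (Nat.card G) < ordProj[p] (Nat.card G) := by
  obtain ⟨n, hn, hpos, hsq⟩ := degree_facts χ
  have hn1 : n ≠ 1 := by
    intro h
    apply hχ
    rw [hn, h]; simp
  have hlt := hsq hn1
  have hchar : Cfsg.IsCharacter G (χ : G → ℂ) := by
    obtain ⟨k, ρ, _, h⟩ := χ.2
    exact ⟨k, ρ, h⟩
  have hdvd := ordCompl_dvd_degree hchar p hp hv n hn
  have hle : ordCompl[p] (Nat.card G) ≤ n := Nat.le_of_dvd hpos hdvd
  have hN0 : Nat.card G ≠ 0 := Nat.card_pos.ne'
  have hcpos : 0 < ordCompl[p] (Nat.card G) := Nat.ordCompl_pos p hN0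
  have hmul : ordProj[p] (Nat.card G) * ordCompl[p] (Nat.card G) = Nat.card G :=
    Nat.ordProj_mul_ordCompl_eq_self (Nat.card G) p
  have h1 : ordCompl[p] (Nat.card G) * ordCompl[p] (Nat.card G)
      < ordProj[p] (Nat.card G) * ordCompl[p] (Nat.card G) := by
    calc ordCompl[p] (Nat.card G) * ordCompl[p] (Nat.card G) ≤ n * n := Nat.mul_le_mul hle hle
      _ = n ^ 2 := (sq n).symm
      _ < Nat.card G := hlt
      _ = ordProj[p] (Nat.card G) * ordCompl[p] (Nat.card G) := hmul.symm
  exact lt_of_mul_lt_mul_right h1 (Nat.zero_le _)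

end Cfsg.Agent.Lib.Helper24.CM
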