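import Mathlib
import Cfsg.Prelude.Def_Characters
import Cfsg.Agent.Lib.Helper24.CM.Defs

/-!
# S4756 farm, leaf L07 (architect helper24)

Keep the name, namespace and statement of `ordProj_unique` exactly; replace only the `sorry`
(auxiliary lemmas with fresh names may be added above it in this file; extra imports of files
already on main are fine).
-/

set_option autoImplicit false

namespace Cfsg.Agent.Lib.Helper24.CM

open scoped ComplexConjugate commutatorElement

/-- [L07] Pure arithmetic: at most one prime `p` has `ordCompl[p] N < ordProj[p] N`.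
Proof: if `p ≠ q` then `ordProj[q] N ∣ ordCompl[p] N` (it divides `N = ordProj[p] N * ordCompl[p] N`
and is coprime to `ordProj[p] N`), so
`ordProj[q] N ≤ ordCompl[p] N < ordProj[p] N ≤ ordCompl[q] N < ordProj[q] N`. -/
theorem ordProj_unique (N p q : ℕ) (hN : 0 < N) (hp : p.Prime) (hq : q.Prime)
    (h1 : ordCompl[p] N < ordProj[p] N) (h2 : ordCompl[q] N < ordProj[q] N) : p = q := by
  by_contra hpq
  have key : ∀ a b : ℕ, a.Prime → b.Prime → a ≠ b → ordProj[b] N ≤ ordCompl[a] N := by
    intro a b ha hb hab
    have hpos : 0 < ordCompl[a] N := Nat.ordCompl_pos a hN.ne'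
    have hfac : (ordCompl[a] N).factorization b = N.factorization b := by
      rw [Nat.factorization_ordCompl, Finsupp.erase_ne (Ne.symm hab)]
    have hdvd : ordProj[b] (ordCompl[a] N) ∣ ordCompl[a] N := Nat.ordProj_dvd _ _
    rw [hfac] at hdvd
    exact Nat.le_of_dvd hpos hdvd
  have k1 := key p q hp hq hpq
  have k2 := key q p hq hp (Ne.symm hpq)
  omega

end Cfsg.Agent.Lib.Helper24.CM
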