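import Mathlib
import Cfsg.Prelude.Def_Characters
import Cfsg.Agent.Lib.Helper24.CM.Defs
import Cfsg.Agent.S4755

/-!
# S4756 farm, leaf L08 (architect helper24)

Keep the name, namespace and statement of `exists_nonlinear` exactly; replace only the `sorry`
(auxiliary lemmas with fresh names may be added above it in this file; extra imports of files
already on main are fine).
-/

set_option autoImplicit false

namespace Cfsg.Agent.Lib.Helper24.CM

open scoped ComplexConjugate commutatorElement

/-- [L08] A nonabelian group has a nonlinear irreducible character.  Proof: otherwise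
`Cfsg.Agent.S4755.card_centralizer_of_vanish 1` (hypothesis vacuous) gives
`|G| = |C_G(1)| = (commutator G).index`, so `commutator G = ⊥` and `G` is commutative. -/
theorem exists_nonlinear {G : Type*} [Group G] [Finite G] (hna : ¬ IsMulCommutative G) :
    ∃ χ : Cfsg.IrrCharacter G, (χ : G → ℂ) 1 ≠ 1 := by
  by_contra hno
  push Not at hno
  apply hna
  have h1 := Cfsg.Agent.S4755.card_centralizer_of_vanish (1 : G)
    (fun χ hχ => absurd (hno χ) hχ)
  have htop : Subgroup.centralizer ({1} : Set G) = ⊤ := by
    rw [eq_top_iff]
    intro g _
    rw [Subgroup.mem_centralizer_iff]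
    intro y hy
    rw [Set.mem_singleton_iff] at hy
    subst hy
    rw [one_mul, mul_one]
  rw [htop, Subgroup.card_top] at h1
  have h2 := Subgroup.card_mul_index (commutator G)
  rw [← h1] at h2
  have hpos : 0 < Nat.card G := Nat.card_pos
  have h3 : Nat.card (commutator G) = 1 := by
    have : Nat.card (commutator G) * Nat.card G = 1 * Nat.card G := by rw [h2, one_mul]
    exact Nat.eq_of_mul_eq_mul_right hpos this
  have hbot : commutator G = ⊥ := Subgroup.card_eq_one.mp h3
  refine ⟨⟨fun a b => ?_⟩⟩
  have hab : ⁅a, b⁆ ∈ commutator G := by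
    rw [commutator_def]
    exact Subgroup.commutator_mem_commutator (Subgroup.mem_top a) (Subgroup.mem_top b)
  rw [hbot, Subgroup.mem_bot, commutatorElement_def] at hab
  have : a * b = (a * b * a⁻¹ * b⁻¹) * (b * a) := by group
  rw [this, hab, one_mul]

end Cfsg.Agent.Lib.Helper24.CM
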