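import Mathlib
import Cfsg.Prelude.Def_Characters
import Cfsg.Agent.Lib.Helper24.CM.Defs

/-!
# S4756 farm, leaf L11 (architect helper24)

Keep the name, namespace and statement of `commutator_isPGroup` exactly; replace only the `sorry`
(auxiliary lemmas with fresh names may be added above it in this file; extra imports of files
already on main are fine).
-/

set_option autoImplicit false

namespace Cfsg.Agent.Lib.Helper24.CM

open scoped ComplexConjugate commutatorElement

/-- [L11] If every nonidentity element `y` of prime power order for a prime `q ≠ p` has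
`|C_G(y)| = |G : G'|`, then `G'` is a `p`-group.  Proof: let `q ≠ p` be a prime dividing `|G'|`; take
`Q : Sylow q G` (nontrivial), `z ≠ 1` in its centre (`IsPGroup.center_nontrivial`), `y := z`; then
`Q ≤ C_G(y)`, so `|Q| ∣ (commutator G).index`; as `|G| = |G'| * index` and `|Q| = q ^ v_q(|G|)` this forces
`q ∤ |G'|`.  So `p` is the only prime divisor of `|G'|`. -/
theorem commutator_isPGroup {G : Type*} [Group G] [Finite G] (p : ℕ) [Fact p.Prime]
    (h : ∀ (y : G) (q b : ℕ), y ≠ 1 → q.Prime → q ≠ p → orderOf y = q ^ b →
      Nat.card (Subgroup.centralizer ({y} : Set G)) = (commutator G).index) :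
    IsPGroup p (commutator G) := by
  classical
  have hp : p.Prime := Fact.out
  have hpos : Nat.card (commutator G) ≠ 0 := Nat.card_pos.ne'
  have hall : ∀ {q : ℕ}, q.Prime → q ∣ Nat.card (commutator G) → q = p := by
    intro q hq hqd
    by_contra hqp
    have : Fact q.Prime := ⟨hq⟩
    obtain ⟨Q⟩ : Nonempty (Sylow q G) := inferInstance
    have hqG : q ∣ Nat.card G := hqd.trans (Subgroup.card_subgroup_dvd_card _)
    have hQcard : Nat.card Q = q ^ (Nat.card G).factorization q := Sylow.card_eq_multiplicity Q
    have hfpos : 0 < (Nat.card G).factorization q :=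
      hq.factorization_pos_of_dvd Nat.card_pos.ne' hqG
    have hQnt : Nontrivial Q := by
      rw [← Finite.one_lt_card_iff_nontrivial, hQcard]
      exact Nat.one_lt_pow hfpos.ne' hq.one_lt
    have := hQnt
    have hcen : Nontrivial (Subgroup.center Q) := IsPGroup.center_nontrivial Q.2
    obtain ⟨z, hz⟩ := exists_ne (1 : Subgroup.center Q)
    have hz1 : ((z : Q) : G) ≠ 1 := by
      intro h1
      apply hz
      apply Subtype.ext
      apply Subtype.ext
      exact h1
    obtain ⟨k, hk⟩ := (IsPGroup.iff_orderOf.mp Q.2) (z : Q)
    have hord : orderOf (((z : Q) : G)) = q ^ k := by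
      rw [Subgroup.orderOf_coe]; exact hk
    have hcard := h _ q k hz1 hq hqp hord
    have hle : (Q : Subgroup G) ≤ Subgroup.centralizer ({((z : Q) : G)} : Set G) := by
      intro x hx
      rw [Subgroup.mem_centralizer_singleton_iff]
      have := (Subgroup.mem_center_iff.mp z.2) ⟨x, hx⟩
      have h2 : ((⟨x, hx⟩ : Q) * (z : Q) : Q) = (z : Q) * ⟨x, hx⟩ := this
      have h3 := congrArg (Subtype.val : Q → G) h2
      simpa using h3
    have hdvd : Nat.card Q ∣ (commutator G).index := by
      rw [← hcard]
      exact Subgroup.card_dvd_of_le hle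
    have hmul := Subgroup.card_mul_index (commutator G)
    rw [hQcard] at hdvd
    have hbig : q ^ ((Nat.card G).factorization q + 1) ∣ Nat.card G := by
      have h5 : q * q ^ (Nat.card G).factorization q ∣
          Nat.card (commutator G) * (commutator G).index := Nat.mul_dvd_mul hqd hdvd
      rw [hmul] at h5
      rw [pow_succ, mul_comm]; exact h5
    exact Nat.pow_succ_factorization_not_dvd Nat.card_pos.ne' hq hbig
  have hcardeq := Nat.eq_prime_pow_of_unique_prime_dvd hpos hall
  exact IsPGroup.of_card hcardeq

end Cfsg.Agent.Lib.Helper24.CM
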