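import Mathlib
import Cfsg.Prelude.Def_Characters
import Cfsg.Agent.Lib.Helper24.CM.Defs

/-!
# S4756 farm, leaf L12 (architect helper24)

Keep the name, namespace and statement of `exists_normal_sylow` exactly; replace only the `sorry`
(auxiliary lemmas with fresh names may be added above it in this file; extra imports of files
already on main are fine).
-/

set_option autoImplicit false

namespace Cfsg.Agent.Lib.Helper24.CM

open scoped ComplexConjugate commutatorElement

/-- [L12] If `G'` is a `p`-group, some Sylow `p`-subgroup contains it and is therefore normal.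
Proof: `IsPGroup.exists_le_sylow`; a subgroup containing `commutator G` is normal
(`g * h * g⁻¹ = ⁅g, h⁆ * h`). -/
theorem exists_normal_sylow {G : Type*} [Group G] [Finite G] (p : ℕ) [Fact p.Prime]
    (h : IsPGroup p (commutator G)) :
    ∃ P : Sylow p G, (P : Subgroup G).Normal ∧ commutator G ≤ (P : Subgroup G) := by
  obtain ⟨P, hP⟩ := h.exists_le_sylow
  refine ⟨P, ?_, hP⟩
  constructor
  intro n hn g
  have h1 : g * n * g⁻¹ = ⁅g, n⁆ * n := by
    rw [commutatorElement_def]; group
  rw [h1]
  refine (P : Subgroup G).mul_mem (hP ?_) hn
  rw [commutator_def]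
  exact Subgroup.commutator_mem_commutator (Subgroup.mem_top g) (Subgroup.mem_top n)

end Cfsg.Agent.Lib.Helper24.CM
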