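import Mathlib
import Cfsg.Prelude.Def_Characters
import Cfsg.Agent.Lib.Helper24.CM.Defs

/-!
# S4756 farm, leaf L13 (architect helper24)

Keep the name, namespace and statement of `exists_complement` exactly; replace only the `sorry`
(auxiliary lemmas with fresh names may be added above it in this file; extra imports of files
already on main are fine).
-/

set_option autoImplicit false

namespace Cfsg.Agent.Lib.Helper24.CM

open scoped ComplexConjugate commutatorElement

/-- [L13] Schur-Zassenhaus: a normal Sylow `p`-subgroup `P` containing `G'` has a complement `A`,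
which is abelian (a commutator of two elements of `A` lies in `A ⊓ G' ≤ A ⊓ P = ⊥`) and of order
prime to `p`.  Use `Subgroup.exists_right_complement'_of_coprime` (or the left version) with
`Sylow.card_coprime_index`. -/
theorem exists_complement {G : Type*} [Group G] [Finite G] (p : ℕ) [Fact p.Prime] (P : Sylow p G)
    (hn : (P : Subgroup G).Normal) (hc : commutator G ≤ (P : Subgroup G)) :
    ∃ A : Subgroup G, (Nat.card ↥A).Coprime p ∧ A ⊔ (P : Subgroup G) = ⊤ ∧
      A ⊓ (P : Subgroup G) = ⊥ ∧ ∀ a ∈ A, ∀ b ∈ A, a * b = b * a := by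
  have : (P : Subgroup G).Normal := hn
  have hcop : (Nat.card (P : Subgroup G)).Coprime (P : Subgroup G).index := P.card_coprime_index
  obtain ⟨A, hA⟩ := Subgroup.exists_left_complement'_of_coprime hcop
  -- hA : IsComplement' A P
  have hdisj : A ⊓ (P : Subgroup G) = ⊥ := hA.disjoint.eq_bot
  have hsup : A ⊔ (P : Subgroup G) = ⊤ := hA.sup_eq_top
  have hcard : Nat.card A = (P : Subgroup G).index := hA.index_eq_card.symm
  refine ⟨A, ?_, hsup, hdisj, ?_⟩
  · rw [hcard]
    have hp : p.Prime := Fact.out
    rw [Nat.coprime_comm, Nat.Prime.coprime_iff_not_dvd hp]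
    exact P.not_dvd_index
  · intro a ha b hb
    have h1 : a * b * a⁻¹ * b⁻¹ ∈ A := A.mul_mem (A.mul_mem (A.mul_mem ha hb) (A.inv_mem ha)) (A.inv_mem hb)
    have h2 : a * b * a⁻¹ * b⁻¹ ∈ (P : Subgroup G) := by
      apply hc
      have := Subgroup.commutator_mem_commutator (Subgroup.mem_top a) (Subgroup.mem_top b)
      rwa [commutatorElement_def] at this
    have h3 : a * b * a⁻¹ * b⁻¹ ∈ A ⊓ (P : Subgroup G) := ⟨h1, h2⟩
    rw [hdisj, Subgroup.mem_bot] at h3
    calc a * b = (a * b * a⁻¹ * b⁻¹) * (b * a) := by group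
      _ = b * a := by rw [h3, one_mul]

end Cfsg.Agent.Lib.Helper24.CM
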