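import Mathlib
import Cfsg.Prelude.Def_Characters
import Cfsg.Agent.Lib.Helper24.CM.Defs

/-!
# S4756 farm, leaf L14 (architect helper24)

Keep the name, namespace and statement of `exists_prime_order_pow` exactly; replace only the `sorry`
(auxiliary lemmas with fresh names may be added above it in this file; extra imports of files
already on main are fine).
-/

set_option autoImplicit false

namespace Cfsg.Agent.Lib.Helper24.CM

open scoped ComplexConjugate commutatorElement

/-- [L14] A nonidentity element `a` of a subgroup `A` of order prime to `p` has a power of prime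
order `q ≠ p`.  Proof: `q := (orderOf a).minFac`, `k := orderOf a / q`, `orderOf_pow_orderOf_div`;
`q ∣ orderOf a ∣ |A|` (`Subgroup.orderOf_dvd_natCard`), so `q ≠ p`. -/
theorem exists_prime_order_pow {G : Type*} [Group G] [Finite G] (p : ℕ) (A : Subgroup G)
    (hcop : (Nat.card ↥A).Coprime p) (a : G) (ha : a ∈ A) (ha1 : a ≠ 1) :
    ∃ k q : ℕ, q.Prime ∧ q ≠ p ∧ orderOf (a ^ k) = q ^ 1 := by
  have hn1 : orderOf a ≠ 1 := by
    intro h; exact ha1 (orderOf_eq_one_iff.mp h)
  have hpos : 0 < orderOf a := orderOf_pos a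
  have hq : (orderOf a).minFac.Prime := Nat.minFac_prime hn1
  have hdvd : (orderOf a).minFac ∣ orderOf a := Nat.minFac_dvd _
  refine ⟨orderOf a / (orderOf a).minFac, (orderOf a).minFac, hq, ?_, ?_⟩
  · intro hqp
    have h1 : (orderOf a).minFac ∣ Nat.card ↥A :=
      hdvd.trans (Subgroup.orderOf_dvd_natCard A ha)
    have h2 : (orderOf a).minFac ∣ Nat.gcd (Nat.card ↥A) p := by
      apply Nat.dvd_gcd h1
      rw [hqp]
    rw [Nat.Coprime] at hcop
    rw [hcop] at h2
    exact hq.one_lt.ne' (Nat.dvd_one.mp h2)
  · rw [pow_one]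
    exact orderOf_pow_orderOf_div hpos.ne' hdvd

end Cfsg.Agent.Lib.Helper24.CM
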