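import Mathlib
import Cfsg.Prelude.Def_Characters
import Cfsg.Agent.Lib.Helper24.CM.Defs
import Cfsg.Agent.S4755

/-!
# S4756 farm, leaf L15 (architect helper24)

Keep the name, namespace and statement of `isConj_iff_of_card` exactly; replace only the `sorry`
(auxiliary lemmas with fresh names may be added above it in this file; extra imports of files
already on main are fine).
-/

set_option autoImplicit false

namespace Cfsg.Agent.Lib.Helper24.CM

open scoped ComplexConjugate commutatorElement

/-- [L15] If `|C_G(w)| = |G : G'|` then the conjugacy class of `w` is the coset `w G'`.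
Proof: copy the last part of the proof of `Cfsg.Agent.S4755.result` (the class is contained in
the coset, and both have `|G'|` elements by `Cfsg.Agent.Lib.Helper2.card_centralizer_mul_card_conj`). -/
theorem isConj_iff_of_card {G : Type*} [Group G] [Finite G] (w : G)
    (h : Nat.card (Subgroup.centralizer ({w} : Set G)) = (commutator G).index) (z : G) :
    IsConj w z ↔ w⁻¹ * z ∈ commutator G := by
  classical
  have := Fintype.ofFinite G
  have hsub : {z : G | IsConj w z} ⊆ {z : G | w⁻¹ * z ∈ commutator G} := by
    intro z hz
    obtain ⟨c, hc⟩ := isConj_iff.1 hz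
    simp only [Set.mem_ofPred_eq]
    rw [← hc, commutator_def]
    have : w⁻¹ * (c * w * c⁻¹) = ⁅w⁻¹, c⁆ := by
      rw [commutatorElement_def]; group
    rw [this]
    exact Subgroup.commutator_mem_commutator (Subgroup.mem_top _) (Subgroup.mem_top _)
  have hcardD : Nat.card {z : G // w⁻¹ * z ∈ commutator G} = Nat.card (commutator G) := by
    apply Nat.card_congr
    refine ⟨fun z => ⟨w⁻¹ * z.1, z.2⟩, fun k => ⟨w * k.1, by simp⟩, ?_, ?_⟩
    · intro z; simp
    · intro k; simp
  have hcardC : Nat.card {z : G // IsConj w z} = Nat.card (commutator G) := by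
    have h1 := Cfsg.Agent.Lib.Helper2.card_centralizer_mul_card_conj w
    rw [h] at h1
    have h2 := Subgroup.card_mul_index (commutator G)
    rw [mul_comm] at h2
    have hpos : 0 < (commutator G).index := Nat.pos_of_ne_zero (Subgroup.index_ne_zero_of_finite)
    exact Nat.eq_of_mul_eq_mul_left hpos (h1.trans h2.symm)
  have heq : {z : G | IsConj w z} = {z : G | w⁻¹ * z ∈ commutator G} := by
    apply Set.eq_of_subset_of_ncard_le hsub _ (Set.toFinite _)
    rw [← Nat.card_coe_set_eq, ← Nat.card_coe_set_eq]
    exact le_of_eq (hcardD.trans hcardC.symm)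
  have := Set.ext_iff.1 heq z
  simpa using this

end Cfsg.Agent.Lib.Helper24.CM
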