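import Mathlib
import Cfsg.Prelude.Def_Characters
import Cfsg.Agent.Lib.Helper24.CM.Defs
import Cfsg.Agent.Lib.Helper24.CM.L15

/-!
# S4756 farm, leaf L16 (architect helper24)

Keep the name, namespace and statement of `commute_commutator_eq_one` exactly; replace only the `sorry`
(auxiliary lemmas with fresh names may be added above it in this file; extra imports of files
already on main are fine).
-/

set_option autoImplicit false

namespace Cfsg.Agent.Lib.Helper24.CM

open scoped ComplexConjugate commutatorElement

/-- [L16] Let `G'` be a `p`-group and `y` of order `q ^ b`, `q ≠ p` prime, with `|C_G(y)| = |G : G'|`.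
Then no nonidentity element of `G'` commutes with `y`.  Proof: by `isConj_iff_of_card`, `y * t` is
conjugate to `y`, so `orderOf (y * t) = orderOf y`; but `y`, `t` commute and have coprime orders
(`t` is a `p`-element), so `orderOf (y * t) = orderOf y * orderOf t`
(`Commute.orderOf_mul_eq_mul_orderOf_of_coprime`); hence `orderOf t = 1`. -/
theorem commute_commutator_eq_one {G : Type*} [Group G] [Finite G] (p : ℕ) [Fact p.Prime]
    (hG' : IsPGroup p (commutator G)) (y : G) (q b : ℕ) (hq : q.Prime) (hqp : q ≠ p)
    (hy : orderOf y = q ^ b)
    (hcard : Nat.card (Subgroup.centralizer ({y} : Set G)) = (commutator G).index)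
    (t : G) (ht : t ∈ commutator G) (hty : t * y = y * t) : t = 1 := by
  have hp : p.Prime := Fact.out
  -- `y * t` is conjugate to `y`
  have hconj : IsConj y (y * t) := by
    rw [isConj_iff_of_card y hcard (y * t)]
    simpa using ht
  have hord : orderOf (y * t) = orderOf y := by
    obtain ⟨c, hc⟩ := isConj_iff.1 hconj
    have hsc : SemiconjBy c y (y * t) := by
      unfold SemiconjBy
      rw [← hc]; group
    exact (hsc.orderOf_eq c).symm
  -- order of `t` is a power of `p`
  obtain ⟨k, hk⟩ := (IsPGroup.iff_orderOf.mp hG') ⟨t, ht⟩
  have hk' : orderOf t = p ^ k := by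
    rw [← hk]; exact (Subgroup.orderOf_mk t ht).symm
  have hcop : (orderOf y).Coprime (orderOf t) := by
    rw [hy, hk']
    exact Nat.Coprime.pow _ _ ((Nat.coprime_primes hq hp).mpr hqp)
  have hcomm : Commute y t := hty.symm
  have hmul := hcomm.orderOf_mul_eq_mul_orderOf_of_coprime hcop
  rw [hord] at hmul
  have hpos : 0 < orderOf y := orderOf_pos y
  have h1 : orderOf t = 1 := by
    have : orderOf y * 1 = orderOf y * orderOf t := by rw [mul_one]; exact hmul
    exact (Nat.eq_of_mul_eq_mul_left hpos this).symm
  exact orderOf_eq_one_iff.mp h1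

end Cfsg.Agent.Lib.Helper24.CM
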