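import Mathlib
import Cfsg.Prelude.Def_Characters
import Cfsg.Agent.Lib.Helper24.CM.Defs
import Cfsg.Agent.Lib.Helper24.CM.L15

/-!
# S4756 farm, leaf L17 (architect helper24)

Keep the name, namespace and statement of `mem_commutator_form` exactly; replace only the `sorry`
(auxiliary lemmas with fresh names may be added above it in this file; extra imports of files
already on main are fine).
-/

set_option autoImplicit false

namespace Cfsg.Agent.Lib.Helper24.CM

open scoped ComplexConjugate commutatorElement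

/-- [L17] With `G = A P`, `P` normal, `A` abelian, `y ∈ A` and `|C_G(y)| = |G : G'|`: every element
of `G'` has the form `y⁻¹ u⁻¹ y u` with `u ∈ P`.  Proof: by `isConj_iff_of_card`, `y * t = g * y * g⁻¹`
for some `g`; write `g = v * a` with `v ∈ P`, `a ∈ A` (from `A ⊔ P = ⊤`, `P` normal; e.g.
`Subgroup.mul_normal` / `Subgroup.normal_mul`); `a` commutes with `y`, so `y * t = v * y * v⁻¹`;
take `u := v⁻¹`. -/
theorem mem_commutator_form {G : Type*} [Group G] [Finite G] (P A : Subgroup G) (hPn : P.Normal)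
    (hAP : A ⊔ P = ⊤) (hAc : ∀ a ∈ A, ∀ b ∈ A, a * b = b * a) (y : G) (hyA : y ∈ A)
    (hcard : Nat.card (Subgroup.centralizer ({y} : Set G)) = (commutator G).index)
    (t : G) (ht : t ∈ commutator G) : ∃ u ∈ P, t = y⁻¹ * u⁻¹ * y * u := by
  have hconj : IsConj y (y * t) := by
    rw [isConj_iff_of_card y hcard (y * t)]
    have : y⁻¹ * (y * t) = t := by group
    rw [this]
    exact ht
  obtain ⟨g, hg⟩ := isConj_iff.mp hconj
  have hgmem : g ∈ ((P ⊔ A : Subgroup G) : Set G) := by
    rw [sup_comm, hAP]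
    exact Set.mem_univ g
  rw [Subgroup.normal_mul] at hgmem
  obtain ⟨v, hv, a, ha, hva⟩ := Set.mem_mul.mp hgmem
  have hay : a * y = y * a := hAc a ha y hyA
  refine ⟨v⁻¹, P.inv_mem hv, ?_⟩
  have h1 : y * t = v * y * v⁻¹ := by
    rw [← hg, ← hva]
    calc v * a * y * (v * a)⁻¹ = v * (a * y) * a⁻¹ * v⁻¹ := by group
      _ = v * (y * a) * a⁻¹ * v⁻¹ := by rw [hay]
      _ = v * y * v⁻¹ := by group
  calc t = y⁻¹ * (y * t) := by group
    _ = y⁻¹ * (v * y * v⁻¹) := by rw [h1]
    _ = y⁻¹ * v⁻¹⁻¹ * y * v⁻¹ := by group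

end Cfsg.Agent.Lib.Helper24.CM
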