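import Mathlib
import Cfsg.Prelude.Def_Characters
import Cfsg.Agent.Lib.Helper24.CM.Defs

/-!
# S4756 farm, leaf L18 (architect helper24)

Keep the name, namespace and statement of `commutator_AP_eq` exactly; replace only the `sorry`
(auxiliary lemmas with fresh names may be added above it in this file; extra imports of files
already on main are fine).
-/

set_option autoImplicit false

namespace Cfsg.Agent.Lib.Helper24.CM

open scoped ComplexConjugate commutatorElement

/-- [L18] If every element of `G'` has the form `y⁻¹ u⁻¹ y u` with `u ∈ P` (for one fixed `y ∈ A`)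
then `⁅A, P⁆ = G'`.  Proof: `≤` by `Subgroup.commutator_mono le_top le_top` and `commutator_def`;
`≥` since `y⁻¹ * u⁻¹ * y * u = ⁅y⁻¹, u⁻¹⁆` (`commutatorElement_def`) lies in `⁅A, P⁆`
(`Subgroup.commutator_mem_commutator`). -/
theorem commutator_AP_eq {G : Type*} [Group G] (P A : Subgroup G) (y : G) (hyA : y ∈ A)
    (h : ∀ t ∈ commutator G, ∃ u ∈ P, t = y⁻¹ * u⁻¹ * y * u) : ⁅A, P⁆ = commutator G := by
  apply le_antisymm
  · rw [commutator_def]
    exact Subgroup.commutator_mono le_top le_top
  · intro t ht
    obtain ⟨u, hu, rfl⟩ := h t ht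
    have h1 : y⁻¹ * u⁻¹ * y * u = ⁅y⁻¹, u⁻¹⁆ := by
      rw [commutatorElement_def]; group
    rw [h1]
    exact Subgroup.commutator_mem_commutator (A.inv_mem hyA) (P.inv_mem hu)

end Cfsg.Agent.Lib.Helper24.CM
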