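import Mathlib
import Cfsg.Prelude.Def_Characters
import Cfsg.Agent.Lib.Helper24.CM.Defs

/-!
# S4756 farm, leaf L19 (architect helper24)

Keep the name, namespace and statement of `mem_centralizer_of_commute` exactly; replace only the `sorry`
(auxiliary lemmas with fresh names may be added above it in this file; extra imports of files
already on main are fine).
-/

set_option autoImplicit false

namespace Cfsg.Agent.Lib.Helper24.CM

open scoped ComplexConjugate commutatorElement

/-- [L19] If `A` is abelian, `y ∈ A`, and no nonidentity element of `G'` commutes with `y`, then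
everything commuting with `y` centralizes `A`.  Proof: for `a ∈ A` the commutator `⁅c, a⁆ ∈ G'` commutes
with `y` (both `c` and `a` do), so it is `1`.  (`Subgroup.mem_centralizer_iff : g ∈ centralizer S ↔
∀ h ∈ S, h * g = g * h`.) -/
theorem mem_centralizer_of_commute {G : Type*} [Group G] (A : Subgroup G)
    (hAc : ∀ a ∈ A, ∀ b ∈ A, a * b = b * a) (y : G) (hyA : y ∈ A)
    (hfix : ∀ t ∈ commutator G, t * y = y * t → t = 1) (c : G) (hc : c * y = y * c) :
    c ∈ Subgroup.centralizer (A : Set G) := by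
  rw [Subgroup.mem_centralizer_iff]
  intro a ha
  have hay : a * y = y * a := hAc a ha y hyA
  have hmem : ⁅c, a⁆ ∈ commutator G := by
    rw [commutator_def]
    exact Subgroup.commutator_mem_commutator (Subgroup.mem_top c) (Subgroup.mem_top a)
  have hc' : y * c⁻¹ = c⁻¹ * y := by
    have : c⁻¹ * (c * y) * c⁻¹ = c⁻¹ * (y * c) * c⁻¹ := by rw [hc]
    simpa [mul_assoc] using this
  have ha' : y * a⁻¹ = a⁻¹ * y := by
    have : a⁻¹ * (a * y) * a⁻¹ = a⁻¹ * (y * a) * a⁻¹ := by rw [hay]
    simpa [mul_assoc] using this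
  have hcomm : ⁅c, a⁆ * y = y * ⁅c, a⁆ := by
    rw [commutatorElement_def]
    calc c * a * c⁻¹ * a⁻¹ * y = c * a * c⁻¹ * (a⁻¹ * y) := by simp only [mul_assoc]
      _ = c * a * c⁻¹ * (y * a⁻¹) := by rw [ha']
      _ = c * a * (c⁻¹ * y) * a⁻¹ := by simp only [mul_assoc]
      _ = c * a * (y * c⁻¹) * a⁻¹ := by rw [hc']
      _ = c * (a * y) * c⁻¹ * a⁻¹ := by simp only [mul_assoc]
      _ = c * (y * a) * c⁻¹ * a⁻¹ := by rw [hay]
      _ = (c * y) * a * c⁻¹ * a⁻¹ := by simp only [mul_assoc]
      _ = (y * c) * a * c⁻¹ * a⁻¹ := by rw [hc]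
      _ = y * (c * a * c⁻¹ * a⁻¹) := by simp only [mul_assoc]
  have h1 : ⁅c, a⁆ = 1 := hfix _ hmem hcomm
  rw [commutatorElement_eq_one_iff_mul_comm] at h1
  exact h1.symm

end Cfsg.Agent.Lib.Helper24.CM
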