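import Mathlib
import Cfsg.Prelude.Def_Characters
import Cfsg.Agent.Lib.Helper24.CM.Defs

/-!
# S4756 farm, leaf L20 (architect helper24)

Keep the name, namespace and statement of `exists_mul_decomp` exactly; replace only the `sorry`
(auxiliary lemmas with fresh names may be added above it in this file; extra imports of files
already on main are fine).
-/

set_option autoImplicit false

namespace Cfsg.Agent.Lib.Helper24.CM

open scoped ComplexConjugate commutatorElement

namespace Helper8L20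

/-- For a normal subgroup `D` and `h` with no nontrivial fixed point in `D`, the map
`d ↦ h⁻¹ * d⁻¹ * h * d` of `D` is surjective. -/
theorem comm_map_surj {G : Type*} [Group G] [Finite G] (D : Subgroup G) [hD : D.Normal] (h : G)
    (hfix : ∀ d ∈ D, d * h = h * d → d = 1) (x : G) (hx : x ∈ D) :
    ∃ d ∈ D, h⁻¹ * d⁻¹ * h * d = x := by
  let f : D → D := fun d => ⟨h⁻¹ * (d : G)⁻¹ * h * d, by
    have h1 : h⁻¹ * (d : G)⁻¹ * h ∈ D := by
      have := hD.conj_mem _ (D.inv_mem d.2) h⁻¹
      simpa using this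
    exact D.mul_mem h1 d.2⟩
  have hinj : Function.Injective f := by
    intro d d' hdd
    have h0 : h⁻¹ * (d : G)⁻¹ * h * d = h⁻¹ * (d' : G)⁻¹ * h * d' := congrArg Subtype.val hdd
    have h1 : (d : G)⁻¹ * h * d = (d' : G)⁻¹ * h * d' := by
      have := congrArg (fun z => h * z) h0
      simpa [mul_assoc] using this
    have h2 : ((d' : G) * (d : G)⁻¹) * h = h * ((d' : G) * (d : G)⁻¹) := by
      calc ((d' : G) * (d : G)⁻¹) * h = (d' : G) * ((d : G)⁻¹ * h * d) * (d : G)⁻¹ := by group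
        _ = (d' : G) * ((d' : G)⁻¹ * h * d') * (d : G)⁻¹ := by rw [h1]
        _ = h * ((d' : G) * (d : G)⁻¹) := by group
    have h3 := hfix _ (D.mul_mem d'.2 (D.inv_mem d.2)) h2
    apply Subtype.ext
    have : (d' : G) = d := by
      calc (d' : G) = ((d' : G) * (d : G)⁻¹) * d := by group
        _ = d := by rw [h3, one_mul]
    exact this.symm
  have hsurj : Function.Surjective f := Finite.surjective_of_injective hinj
  obtain ⟨d, hd⟩ := hsurj ⟨x, hx⟩
  exact ⟨d, d.2, congrArg Subtype.val hd⟩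

end Helper8L20

/-- [L20] `P = C_P(A) G'`.  Proof: the map `G' → G'`, `d ↦ y⁻¹ * d⁻¹ * y * d` is injective (if the
images of `d`, `d'` agree then `d' * d⁻¹ ∈ G'` commutes with `y`), hence surjective
(`Finite.surjective_of_injective`).  For `u ∈ P` the element `y⁻¹ * u⁻¹ * y * u = ⁅y⁻¹, u⁻¹⁆` is in `G'`,
so it equals `y⁻¹ * d⁻¹ * y * d` for some `d ∈ G'`; then `c := u * d⁻¹ ∈ P` commutes with `y`, so
`c ∈ centralizer A` by `hcent`, and `u = c * d`. -/
theorem exists_mul_decomp {G : Type*} [Group G] [Finite G] (P A : Subgroup G)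
    (hG'P : commutator G ≤ P) (y : G) (hyA : y ∈ A)
    (hfix : ∀ t ∈ commutator G, t * y = y * t → t = 1)
    (hcent : ∀ c : G, c * y = y * c → c ∈ Subgroup.centralizer (A : Set G))
    (u : G) (hu : u ∈ P) :
    ∃ c ∈ P ⊓ Subgroup.centralizer (A : Set G), ∃ d ∈ commutator G, u = c * d := by
  classical
  have hxD : y⁻¹ * u⁻¹ * y * u ∈ commutator G := by
    have : ⁅y⁻¹, u⁻¹⁆ ∈ commutator G := Subgroup.commutator_mem_commutator (Subgroup.mem_top _) (Subgroup.mem_top _)
    have e : ⁅y⁻¹, u⁻¹⁆ = y⁻¹ * u⁻¹ * y * u := by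
      rw [commutatorElement_def]; group
    rwa [e] at this
  obtain ⟨d, hd, hdeq⟩ := Helper8L20.comm_map_surj (commutator G) y hfix _ hxD
  have h1 : d⁻¹ * y * d = u⁻¹ * y * u := by
    have := congrArg (fun z => y * z) hdeq
    simpa [mul_assoc] using this
  have hc : (u * d⁻¹) * y = y * (u * d⁻¹) := by
    calc (u * d⁻¹) * y = u * (d⁻¹ * y * d) * d⁻¹ := by group
      _ = u * (u⁻¹ * y * u) * d⁻¹ := by rw [h1]
      _ = y * (u * d⁻¹) := by group
  refine ⟨u * d⁻¹, ⟨P.mul_mem hu (P.inv_mem (hG'P hd)), hcent _ hc⟩, d, hd, by group⟩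

end Cfsg.Agent.Lib.Helper24.CM
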