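import Mathlib
import Cfsg.Prelude.Def_Characters
import Cfsg.Agent.Lib.Helper24.CM.Defs

/-!
# S4756 farm, leaf L21 (architect helper24)

Keep the name, namespace and statement of `inf_commutator_eq_bot` exactly; replace only the `sorry`
(auxiliary lemmas with fresh names may be added above it in this file; extra imports of files
already on main are fine).
-/

set_option autoImplicit false

namespace Cfsg.Agent.Lib.Helper24.CM

open scoped ComplexConjugate commutatorElement

/-- [L21] `C_P(A) ∩ G' = 1`: an element of `centralizer A` commutes with `y ∈ A`. -/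
theorem inf_commutator_eq_bot {G : Type*} [Group G] (P A : Subgroup G) (y : G) (hyA : y ∈ A)
    (hfix : ∀ t ∈ commutator G, t * y = y * t → t = 1) :
    (P ⊓ Subgroup.centralizer (A : Set G)) ⊓ commutator G = ⊥ := by
  rw [eq_bot_iff]
  intro t ht
  rw [Subgroup.mem_inf, Subgroup.mem_inf] at ht
  obtain ⟨⟨_, htc⟩, htG⟩ := ht
  rw [Subgroup.mem_bot]
  apply hfix t htG
  rw [Subgroup.mem_centralizer_iff] at htc
  exact (htc y hyA).symm

end Cfsg.Agent.Lib.Helper24.CM
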