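import Mathlib
import Cfsg.Prelude.Def_Characters
import Cfsg.Agent.Lib.Helper24.CM.Defs

/-!
# S4756 farm, leaf L22 (architect helper24)

Keep the name, namespace and statement of `isMulCommutative_of_inf` exactly; replace only the `sorry`
(auxiliary lemmas with fresh names may be added above it in this file; extra imports of files
already on main are fine).
-/

set_option autoImplicit false

namespace Cfsg.Agent.Lib.Helper24.CM

open scoped ComplexConjugate commutatorElement

/-- [L22] A subgroup meeting `G'` trivially is commutative: `⁅c, c'⁆ ∈ C ⊓ G' = ⊥`. -/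
theorem isMulCommutative_of_inf {G : Type*} [Group G] (C : Subgroup G)
    (h : C ⊓ commutator G = ⊥) : IsMulCommutative ↥C := by
  refine ⟨⟨fun a b => ?_⟩⟩
  have hmem : ⁅(a : G), (b : G)⁆ ∈ C ⊓ commutator G := by
    rw [Subgroup.mem_inf]
    refine ⟨?_, ?_⟩
    · rw [commutatorElement_def]
      exact C.mul_mem (C.mul_mem (C.mul_mem a.2 b.2) (C.inv_mem a.2)) (C.inv_mem b.2)
    · rw [commutator_def]
      exact Subgroup.commutator_mem_commutator (Subgroup.mem_top _) (Subgroup.mem_top _)
  rw [h, Subgroup.mem_bot, commutatorElement_eq_one_iff_mul_comm] at hmem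
  exact Subtype.ext hmem

end Cfsg.Agent.Lib.Helper24.CM
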