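import Mathlib
import Cfsg.Prelude.Def_Characters
import Cfsg.Agent.Lib.Helper24.CM.Defs
import Cfsg.Agent.S4755

/-!
# S4756 farm, leaf L24 (architect helper24)

Keep the name, namespace and statement of `vanish_of_card_le` exactly; replace only the `sorry`
(auxiliary lemmas with fresh names may be added above it in this file; extra imports of files
already on main are fine).
-/

set_option autoImplicit false

namespace Cfsg.Agent.Lib.Helper24.CM

open scoped ComplexConjugate commutatorElement

/-- [L24] If `|C_G(g)| ≤ |G : G'|` then every nonlinear irreducible character vanishes at `g`.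
Proof: as in `Cfsg.Agent.S4755.card_centralizer_of_vanish`:
`Cfsg.Agent.Lib.Helper25.second_orthogonality_self g` says `∑ χ, χ g * conj (χ g) = |C_G(g)|`; the linear
characters contribute `1` each (`norm_linear_char`) and there are `(commutator G).index` of them
(`card_linear_char`); all terms are nonnegative reals, so the nonlinear terms are `0`. -/
theorem vanish_of_card_le {G : Type*} [Group G] [Finite G] (g : G)
    (h : Nat.card (Subgroup.centralizer ({g} : Set G)) ≤ (commutator G).index)
    (χ : Cfsg.IrrCharacter G) (hχ : (χ : G → ℂ) 1 ≠ 1) : (χ : G → ℂ) g = 0 := by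
  classical
  have : Fintype G := Fintype.ofFinite G
  have : Fintype (Cfsg.IrrCharacter G) := Fintype.ofFinite _
  have h1 := Cfsg.Agent.Lib.Helper25.second_orthogonality_self g
  have h2 : ∀ ψ : Cfsg.IrrCharacter G, (ψ : G → ℂ) g * conj ((ψ : G → ℂ) g)
      = ((Complex.normSq ((ψ : G → ℂ) g) : ℝ) : ℂ) := fun ψ => Complex.mul_conj _
  simp_rw [h2] at h1
  have h3 : ∑ ψ : Cfsg.IrrCharacter G, Complex.normSq ((ψ : G → ℂ) g)
      = (Nat.card (Subgroup.centralizer ({g} : Set G)) : ℝ) := by
    exact_mod_cast h1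
  -- split into linear and nonlinear characters
  rw [← Finset.sum_filter_add_sum_filter_not Finset.univ
    (fun ψ : Cfsg.IrrCharacter G => (ψ : G → ℂ) 1 = 1)] at h3
  have hlin : ∑ ψ ∈ Finset.univ.filter (fun ψ : Cfsg.IrrCharacter G => (ψ : G → ℂ) 1 = 1),
      Complex.normSq ((ψ : G → ℂ) g) = ((commutator G).index : ℝ) := by
    have h4 : ∀ ψ ∈ Finset.univ.filter (fun ψ : Cfsg.IrrCharacter G => (ψ : G → ℂ) 1 = 1),
        Complex.normSq ((ψ : G → ℂ) g) = 1 := by
      intro ψ hψ
      rw [Finset.mem_filter] at hψ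
      rw [Complex.normSq_eq_norm_sq, Cfsg.Agent.Lib.Helper25.norm_linear_char
        (Cfsg.Agent.Lib.Helper25.isCharacter_of_irr ψ.2) hψ.2]
      simp
    rw [Finset.sum_congr rfl h4, Finset.sum_const, nsmul_eq_mul, mul_one]
    have h5 : (Finset.univ.filter fun ψ : Cfsg.IrrCharacter G => (ψ : G → ℂ) 1 = 1).card =
        Nat.card {ψ : Cfsg.IrrCharacter G // (ψ : G → ℂ) 1 = 1} := by
      rw [Nat.card_eq_fintype_card, Fintype.card_subtype]
    rw [h5, Cfsg.Agent.Lib.Helper25.card_linear_char]
  rw [hlin] at h3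
  have hle : ∑ ψ ∈ Finset.univ.filter (fun ψ : Cfsg.IrrCharacter G => ¬ (ψ : G → ℂ) 1 = 1),
      Complex.normSq ((ψ : G → ℂ) g) ≤ 0 := by
    have h6 : (Nat.card (Subgroup.centralizer ({g} : Set G)) : ℝ) ≤ ((commutator G).index : ℝ) := by
      exact_mod_cast h
    linarith
  have hnn : ∀ ψ ∈ Finset.univ.filter (fun ψ : Cfsg.IrrCharacter G => ¬ (ψ : G → ℂ) 1 = 1),
      0 ≤ Complex.normSq ((ψ : G → ℂ) g) := fun ψ _ => Complex.normSq_nonneg _
  have hzero := (Finset.sum_eq_zero_iff_of_nonneg hnn).1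
    (le_antisymm hle (Finset.sum_nonneg hnn))
  have h7 := hzero χ (by rw [Finset.mem_filter]; exact ⟨Finset.mem_univ _, hχ⟩)
  exact Complex.normSq_eq_zero.1 h7

end Cfsg.Agent.Lib.Helper24.CM
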