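import Mathlib
import Cfsg.Prelude.Def_Characters
import Cfsg.Agent.Lib.Helper24.CM.Defs

/-!
# S4756 farm, leaf L25 (architect helper24)

Keep the name, namespace and statement of `hyp1_of_isPGroup` exactly; replace only the `sorry`
(auxiliary lemmas with fresh names may be added above it in this file; extra imports of files
already on main are fine).
-/

set_option autoImplicit false

namespace Cfsg.Agent.Lib.Helper24.CM

open scoped ComplexConjugate commutatorElement

/-- [L25] In a `p`-group there is no admissible pair, so (1) holds vacuously: `orderOf x` and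
`orderOf y` are powers of `p` (`IsPGroup.iff_orderOf`), not `1`, so both primes of `CopPair` equal `p`. -/
theorem hyp1_of_isPGroup {G : Type*} [Group G] [Finite G] (p : ℕ) (hp : p.Prime)
    (h : IsPGroup p G) : Hyp1 G := by
  have : Fact p.Prime := ⟨hp⟩
  intro x y χ hx hy hxy
  exfalso
  obtain ⟨p', q', a, b, hp', hq', hne, hox, hoy⟩ := hxy
  obtain ⟨kx, hkx⟩ := (IsPGroup.iff_orderOf.mp h) x
  obtain ⟨ky, hky⟩ := (IsPGroup.iff_orderOf.mp h) y
  have hx1 : orderOf x ≠ 1 := fun h1 => hx (orderOf_eq_one_iff.mp h1)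
  have hy1 : orderOf y ≠ 1 := fun h1 => hy (orderOf_eq_one_iff.mp h1)
  have ha : a ≠ 0 := by
    rintro rfl
    exact hx1 (by rw [hox, pow_zero])
  have hb : b ≠ 0 := by
    rintro rfl
    exact hy1 (by rw [hoy, pow_zero])
  have h1 : p' ∣ p ^ kx := by
    rw [← hkx, hox]
    exact dvd_pow_self p' ha
  have h2 : q' ∣ p ^ ky := by
    rw [← hky, hoy]
    exact dvd_pow_self q' hb
  have e1 : p' = p := (Nat.prime_dvd_prime_iff_eq hp' hp).mp (hp'.dvd_of_dvd_pow h1)
  have e2 : q' = p := (Nat.prime_dvd_prime_iff_eq hq' hp).mp (hq'.dvd_of_dvd_pow h2)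
  exact hne (e1.trans e2.symm)

end Cfsg.Agent.Lib.Helper24.CM
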