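import Mathlib
import Cfsg.Prelude.Def_Characters
import Cfsg.Agent.Lib.Helper24.CM.Defs
import Cfsg.Agent.Lib.Helper24.CM.L24
import Cfsg.Agent.Lib.Helper24.CM.L03

/-!
# S4756 farm, leaf L26 (architect helper24)

Keep the name, namespace and statement of `irr_linear_of_comm` exactly; replace only the `sorry`
(auxiliary lemmas with fresh names may be added above it in this file; extra imports of files
already on main are fine).
-/

set_option autoImplicit false

namespace Cfsg.Agent.Lib.Helper24.CM

open scoped ComplexConjugate commutatorElement

/-- [L26] All irreducible characters of an abelian group are linear.  Proof: `commutator G = ⊥`, so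
`|C_G(1)| = |G| = (commutator G).index`; by `vanish_of_card_le 1` a nonlinear `χ` has `χ 1 = 0`,
contradicting `degree_facts` (`0 < n`). -/
theorem irr_linear_of_comm {G : Type*} [Group G] [Finite G] (hc : IsMulCommutative G)
    (χ : Cfsg.IrrCharacter G) : (χ : G → ℂ) 1 = 1 := by
  classical
  by_contra hne
  have hcomm : commutator G = ⊥ := by
    rw [eq_bot_iff, commutator_eq_closure, Subgroup.closure_le]
    rintro x ⟨a, b, rfl⟩
    have hab : a * b = b * a := hc.is_comm.comm a b
    rw [SetLike.mem_coe, Subgroup.mem_bot, commutatorElement_def, hab]
    group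
  have hcard : Nat.card (Subgroup.centralizer ({(1 : G)} : Set G)) ≤ (commutator G).index := by
    rw [hcomm, Subgroup.index_bot]
    exact Nat.card_le_card_of_injective _ Subtype.val_injective
  have h0 := vanish_of_card_le (1 : G) hcard χ hne
  obtain ⟨n, hn, hpos, -⟩ := degree_facts χ
  rw [hn] at h0
  have : n = 0 := by exact_mod_cast h0
  omega

end Cfsg.Agent.Lib.Helper24.CM
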