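import Mathlib
import Cfsg.Prelude.Def_Characters
import Cfsg.Agent.Lib.Helper24.CM.Defs

/-!
# S4756 farm, leaf L27 (architect helper24)

Keep the name, namespace and statement of `commutator_le_of_structure` exactly; replace only the `sorry`
(auxiliary lemmas with fresh names may be added above it in this file; extra imports of files
already on main are fine).
-/

set_option autoImplicit false

namespace Cfsg.Agent.Lib.Helper24.CM

open scoped ComplexConjugate commutatorElement

/-- [L27] In the structured case `G / D` is abelian, i.e. `G' ≤ D`, where `D` is normal,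
`G = A P`, `P = C D`, `A` is abelian, `C` is abelian and centralizes `A`.
Proof: modulo `D` the group is generated by the images of `A` and `C`, which commute elementwise.
E.g. show that `{g | ∀ k, ⁅g, k⁆ ∈ D}`-style centrality holds in `G ⧸ D`, or prove
`∀ g₁ g₂, ⁅g₁, g₂⁆ ∈ D` after writing `gᵢ = aᵢ * cᵢ * dᵢ` and working in the quotient `G ⧸ D`
(`Subgroup.commutator_le`, `commutator_def`, `QuotientGroup.eq_one_iff`). -/
theorem commutator_le_of_structure {G : Type*} [Group G] (P A C D : Subgroup G)
    (hPn : P.Normal) (hDn : D.Normal) (hAP : A ⊔ P = ⊤) (hCD : C ⊔ D = P)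
    (hAc : ∀ a ∈ A, ∀ b ∈ A, a * b = b * a) (hCc : ∀ a ∈ C, ∀ b ∈ C, a * b = b * a)
    (hCA : C ≤ Subgroup.centralizer (A : Set G)) : commutator G ≤ D := by
  have hsurj : Function.Surjective (QuotientGroup.mk' D) := QuotientGroup.mk'_surjective D
  have htop : A ⊔ C ⊔ D = ⊤ := by rw [sup_assoc, hCD, hAP]
  have hDbot : D.map (QuotientGroup.mk' D) = ⊥ := by
    rw [Subgroup.map_eq_bot_iff, QuotientGroup.ker_mk']
  have hmap : A.map (QuotientGroup.mk' D) ⊔ C.map (QuotientGroup.mk' D) = ⊤ := by
    have := congrArg (Subgroup.map (QuotientGroup.mk' D)) htop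
    rw [Subgroup.map_sup, Subgroup.map_sup, Subgroup.map_top_of_surjective _ hsurj, hDbot,
      sup_bot_eq] at this
    exact this
  -- elements of C commute with elements of A
  have hca : ∀ c ∈ C, ∀ a ∈ A, a * c = c * a := by
    intro c hc a ha
    exact (Subgroup.mem_centralizer_iff.mp (hCA hc) a ha)
  -- images of A are central
  have hAcen : A.map (QuotientGroup.mk' D) ≤ Subgroup.center (G ⧸ D) := by
    rintro _ ⟨a, ha, rfl⟩
    rw [Subgroup.mem_center_iff]
    have hle : A.map (QuotientGroup.mk' D) ⊔ C.map (QuotientGroup.mk' D) ≤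
        Subgroup.centralizer {(QuotientGroup.mk' D) a} := by
      apply sup_le
      · rintro _ ⟨b, hb, rfl⟩
        rw [Subgroup.mem_centralizer_singleton_iff]
        rw [← map_mul, ← map_mul, hAc b hb a ha]
      · rintro _ ⟨c, hc, rfl⟩
        rw [Subgroup.mem_centralizer_singleton_iff]
        rw [← map_mul, ← map_mul, hca c hc a ha]
    intro q
    have hq : q ∈ Subgroup.centralizer {(QuotientGroup.mk' D) a} := by
      apply hle; rw [hmap]; trivial
    rw [Subgroup.mem_centralizer_singleton_iff] at hq
    exact hq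
  have hCcen : C.map (QuotientGroup.mk' D) ≤ Subgroup.center (G ⧸ D) := by
    rintro _ ⟨c, hc, rfl⟩
    rw [Subgroup.mem_center_iff]
    have hle : A.map (QuotientGroup.mk' D) ⊔ C.map (QuotientGroup.mk' D) ≤
        Subgroup.centralizer {(QuotientGroup.mk' D) c} := by
      apply sup_le
      · rintro _ ⟨a, ha, rfl⟩
        rw [Subgroup.mem_centralizer_singleton_iff]
        rw [← map_mul, ← map_mul, hca c hc a ha]
      · rintro _ ⟨c', hc', rfl⟩
        rw [Subgroup.mem_centralizer_singleton_iff]
        rw [← map_mul, ← map_mul, hCc c' hc' c hc]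
    intro q
    have hq : q ∈ Subgroup.centralizer {(QuotientGroup.mk' D) c} := by
      apply hle; rw [hmap]; trivial
    rw [Subgroup.mem_centralizer_singleton_iff] at hq
    exact hq
  have hcen : Subgroup.center (G ⧸ D) = ⊤ := by
    rw [eq_top_iff, ← hmap]
    exact sup_le hAcen hCcen
  rw [commutator_def, Subgroup.commutator_le]
  intro g₁ _ g₂ _
  rw [← QuotientGroup.eq_one_iff, ← QuotientGroup.mk'_apply, map_commutatorElement,
    commutatorElement_eq_one_iff_commute]
  have h1 : (QuotientGroup.mk' D) g₁ ∈ Subgroup.center (G ⧸ D) := by rw [hcen]; trivial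
  exact ((Subgroup.mem_center_iff.mp h1) ((QuotientGroup.mk' D) g₂)).symm

end Cfsg.Agent.Lib.Helper24.CM
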