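import Mathlib
import Cfsg.Prelude.Def_Characters
import Cfsg.Agent.Lib.Helper24.CM.Defs

/-!
# S4756 farm, leaf L28 (architect helper24)

Keep the name, namespace and statement of `fpf_mul` exactly; replace only the `sorry`
(auxiliary lemmas with fresh names may be added above it in this file; extra imports of files
already on main are fine).
-/

set_option autoImplicit false

namespace Cfsg.Agent.Lib.Helper24.CM

open scoped ComplexConjugate commutatorElement

/-- [L28] If `A` (of order prime to `p`) acts fixed-point-freely on `D`, `c` is a `p`-element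
commuting with `a ∈ A`, `a ≠ 1`, then `a * c` centralizes no nonidentity element of `D`.
Proof: let `m := p ^ k` with `c ^ m = 1`; then `(a * c) ^ m = a ^ m` (`Commute.mul_pow`), which lies in `A`
and is `≠ 1` because `orderOf a` divides `|A|`, which is prime to `p`; `d` commutes with `(a * c) ^ m`. -/
theorem fpf_mul {G : Type*} [Group G] [Finite G] (p : ℕ) [Fact p.Prime] (A D : Subgroup G)
    (hcop : (Nat.card ↥A).Coprime p)
    (hfpf : ∀ a ∈ A, a ≠ 1 → ∀ d ∈ D, a * d = d * a → d = 1)
    (a : G) (ha : a ∈ A) (ha1 : a ≠ 1) (c : G) (k : ℕ) (hck : c ^ (p ^ k) = 1)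
    (hac : a * c = c * a) (d : G) (hd : d ∈ D) (hcomm : (a * c) * d = d * (a * c)) : d = 1 := by
  have hcm : Commute a c := hac
  have hpow : (a * c) ^ (p ^ k) = a ^ (p ^ k) := by
    rw [hcm.mul_pow, hck, mul_one]
  have hmemA : a ^ (p ^ k) ∈ A := A.pow_mem ha _
  have hne : a ^ (p ^ k) ≠ 1 := by
    intro h1
    have hdvd : orderOf a ∣ p ^ k := orderOf_dvd_of_pow_eq_one h1
    have hdvdA : orderOf a ∣ Nat.card ↥A := Subgroup.orderOf_dvd_natCard A ha
    have hcop' : (orderOf a).Coprime (p ^ k) :=
      Nat.Coprime.pow_right k (Nat.Coprime.coprime_dvd_left hdvdA hcop)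
    have h1' : orderOf a = 1 := Nat.Coprime.eq_one_of_dvd hcop' hdvd
    exact ha1 (orderOf_eq_one_iff.mp h1')
  have hcd : Commute (a * c) d := hcomm
  have hcd' : Commute ((a * c) ^ (p ^ k)) d := hcd.pow_left _
  rw [hpow] at hcd'
  exact hfpf _ hmemA hne d hd hcd'

end Cfsg.Agent.Lib.Helper24.CM
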