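import Mathlib
import Cfsg.Prelude.Def_Characters
import Cfsg.Agent.Lib.Helper24.CM.Defs

/-!
# S4756 farm, leaf L29 (architect helper24)

Keep the name, namespace and statement of `conj_into` exactly; replace only the `sorry`
(auxiliary lemmas with fresh names may be added above it in this file; extra imports of files
already on main are fine).
-/

set_option autoImplicit false

namespace Cfsg.Agent.Lib.Helper24.CM

open scoped ComplexConjugate commutatorElement

namespace Helper8L29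

/-- For a normal subgroup `D` and `h` with no nontrivial fixed point in `D`, the map
`d ↦ h⁻¹ * d⁻¹ * h * d` of `D` is surjective. -/
theorem comm_map_surj {G : Type*} [Group G] [Finite G] (D : Subgroup G) [hD : D.Normal] (h : G)
    (hfix : ∀ d ∈ D, d * h = h * d → d = 1) (x : G) (hx : x ∈ D) :
    ∃ d ∈ D, h⁻¹ * d⁻¹ * h * d = x := by
  let f : D → D := fun d => ⟨h⁻¹ * (d : G)⁻¹ * h * d, by
    have h1 : h⁻¹ * (d : G)⁻¹ * h ∈ D := by
      have := hD.conj_mem _ (D.inv_mem d.2) h⁻¹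
      simpa using this
    exact D.mul_mem h1 d.2⟩
  have hinj : Function.Injective f := by
    intro d d' hdd
    have h0 : h⁻¹ * (d : G)⁻¹ * h * d = h⁻¹ * (d' : G)⁻¹ * h * d' := congrArg Subtype.val hdd
    have h1 : (d : G)⁻¹ * h * d = (d' : G)⁻¹ * h * d' := by
      have := congrArg (fun z => h * z) h0
      simpa [mul_assoc] using this
    have h2 : ((d' : G) * (d : G)⁻¹) * h = h * ((d' : G) * (d : G)⁻¹) := by
      calc ((d' : G) * (d : G)⁻¹) * h = (d' : G) * ((d : G)⁻¹ * h * d) * (d : G)⁻¹ := by group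
        _ = (d' : G) * ((d' : G)⁻¹ * h * d') * (d : G)⁻¹ := by rw [h1]
        _ = h * ((d' : G) * (d : G)⁻¹) := by group
    have h3 := hfix _ (D.mul_mem d'.2 (D.inv_mem d.2)) h2
    apply Subtype.ext
    have : (d' : G) = d := by
      calc (d' : G) = ((d' : G) * (d : G)⁻¹) * d := by group
        _ = d := by rw [h3, one_mul]
    exact this.symm
  have hsurj : Function.Surjective f := Finite.surjective_of_injective hinj
  obtain ⟨d, hd⟩ := hsurj ⟨x, hx⟩
  exact ⟨d, d.2, congrArg Subtype.val hd⟩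

end Helper8L29

/-- [L29] In the structured case every `g ∉ P` is conjugate, by an element of `D`, to some `a * c`
with `a ∈ A`, `a ≠ 1`, `c ∈ C`.  Proof: `g = a * u` with `a ∈ A`, `u ∈ P` (`A ⊔ P = ⊤`, `P` normal), and
`a ≠ 1` as `g ∉ P`; `u = c * d'` with `c ∈ C`, `d' ∈ D` (`C ⊔ D = P`, `D` normal).  Put `h := a * c`.  The map
`D → D`, `d ↦ h⁻¹ * d⁻¹ * h * d` is injective by `hfix`, hence surjective; choose `d₀` with image `d'`; then
`d₀⁻¹ * h * d₀ = h * d' = g`. -/
theorem conj_into {G : Type*} [Group G] [Finite G] (P A C D : Subgroup G)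
    (hPn : P.Normal) (hDn : D.Normal) (hAP : A ⊔ P = ⊤) (hCD : C ⊔ D = P)
    (hfix : ∀ a ∈ A, a ≠ 1 → ∀ c ∈ C, ∀ d ∈ D, (a * c) * d = d * (a * c) → d = 1)
    (g : G) (hg : g ∉ P) :
    ∃ a ∈ A, a ≠ 1 ∧ ∃ c ∈ C, ∃ d₀ ∈ D, g = d₀⁻¹ * (a * c) * d₀ := by
  classical
  have hgtop : g ∈ A ⊔ P := by rw [hAP]; exact Subgroup.mem_top _
  obtain ⟨a, ha, u, hu, hau⟩ := Subgroup.mem_sup_of_normal_right.mp hgtop
  have ha1 : a ≠ 1 := by
    rintro rfl
    rw [one_mul] at hau
    exact hg (hau ▸ hu)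
  have huP : u ∈ C ⊔ D := by rw [hCD]; exact hu
  obtain ⟨c, hc, d', hd', hcd⟩ := Subgroup.mem_sup_of_normal_right.mp huP
  have hfix' : ∀ d ∈ D, d * (a * c) = (a * c) * d → d = 1 :=
    fun d hd he => hfix a ha ha1 c hc d hd he.symm
  obtain ⟨d₀, hd₀, hdeq⟩ := Helper8L29.comm_map_surj D (a * c) hfix' d' hd'
  refine ⟨a, ha, ha1, c, hc, d₀, hd₀, ?_⟩
  have h1 : d₀⁻¹ * (a * c) * d₀ = (a * c) * d' := by
    have := congrArg (fun z => (a * c) * z) hdeq
    simpa [mul_assoc] using this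
  rw [h1, ← hau, ← hcd]; group

end Cfsg.Agent.Lib.Helper24.CM
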