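import Mathlib
import Cfsg.Prelude.Def_Characters
import Cfsg.Agent.Lib.Helper24.CM.Defs
import Cfsg.Agent.Lib.Helper24.CM.L29

/-!
# S4756 farm, leaf L30 (architect helper24)

Keep the name, namespace and statement of `commute_D_eq_one` exactly; replace only the `sorry`
(auxiliary lemmas with fresh names may be added above it in this file; extra imports of files
already on main are fine).
-/

set_option autoImplicit false

namespace Cfsg.Agent.Lib.Helper24.CM

open scoped ComplexConjugate commutatorElement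

/-- [L30] In the structured case an element `g ∉ P` centralizes no nonidentity element of `D`.
Proof: by `conj_into`, `g = d₀⁻¹ * (a * c) * d₀`; if `d ∈ D` commutes with `g` then `d₀ * d * d₀⁻¹ ∈ D`
commutes with `a * c`, so it is `1` by `hfix`. -/
theorem commute_D_eq_one {G : Type*} [Group G] [Finite G] (P A C D : Subgroup G)
    (hPn : P.Normal) (hDn : D.Normal) (hAP : A ⊔ P = ⊤) (hCD : C ⊔ D = P)
    (hfix : ∀ a ∈ A, a ≠ 1 → ∀ c ∈ C, ∀ d ∈ D, (a * c) * d = d * (a * c) → d = 1)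
    (g : G) (hg : g ∉ P) (d : G) (hd : d ∈ D) (hgd : g * d = d * g) : d = 1 := by
  obtain ⟨a, ha, ha1, c, hc, d₀, hd₀, hgeq⟩ := conj_into P A C D hPn hDn hAP hCD hfix g hg
  have hd' : d₀ * d * d₀⁻¹ ∈ D := hDn.conj_mem d hd d₀
  have hcomm : (a * c) * (d₀ * d * d₀⁻¹) = (d₀ * d * d₀⁻¹) * (a * c) := by
    have h1 : (a * c) = d₀ * g * d₀⁻¹ := by rw [hgeq]; group
    rw [h1]
    calc d₀ * g * d₀⁻¹ * (d₀ * d * d₀⁻¹) = d₀ * (g * d) * d₀⁻¹ := by group
      _ = d₀ * (d * g) * d₀⁻¹ := by rw [hgd]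
      _ = d₀ * d * d₀⁻¹ * (d₀ * g * d₀⁻¹) := by group
  have h1 : d₀ * d * d₀⁻¹ = 1 := hfix a ha ha1 c hc _ hd' hcomm
  have : d = d₀⁻¹ * (d₀ * d * d₀⁻¹) * d₀ := by group
  rw [this, h1]; group

end Cfsg.Agent.Lib.Helper24.CM
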