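import Mathlib
import Cfsg.Prelude.Def_Characters
import Cfsg.Agent.Lib.Helper24.CM.Defs

/-!
# S4756 farm, leaf L31 (architect helper24)

Keep the name, namespace and statement of `card_centralizer_le` exactly; replace only the `sorry`
(auxiliary lemmas with fresh names may be added above it in this file; extra imports of files
already on main are fine).
-/

set_option autoImplicit false

namespace Cfsg.Agent.Lib.Helper24.CM

open scoped ComplexConjugate commutatorElement

/-- [L31] If `C_G(g) ∩ D = 1` for a normal subgroup `D ≥ G'` then `|C_G(g)| ≤ |G : G'|`.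
Proof: the quotient map restricted to `C_G(g)` is injective, so `|C_G(g)| ≤ D.index`
(`Nat.card_le_card_of_injective`), and `D.index ∣ (commutator G).index` (`Subgroup.index_dvd_of_le`),
the latter being nonzero. -/
theorem card_centralizer_le {G : Type*} [Group G] [Finite G] (D : Subgroup G) (hDn : D.Normal)
    (hGD : commutator G ≤ D) (g : G) (hfix : ∀ d ∈ D, g * d = d * g → d = 1) :
    Nat.card (Subgroup.centralizer ({g} : Set G)) ≤ (commutator G).index := by
  have : D.Normal := hDn
  -- the quotient map restricted to the centralizer is injective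
  have hinj : Function.Injective
      (fun c : Subgroup.centralizer ({g} : Set G) => (QuotientGroup.mk (c : G) : G ⧸ D)) := by
    intro c₁ c₂ h12
    have h12' : (QuotientGroup.mk (c₁ : G) : G ⧸ D) = QuotientGroup.mk (c₂ : G) := h12
    rw [QuotientGroup.eq] at h12'
    -- (c₁)⁻¹ * c₂ ∈ D, and it commutes with g
    have hcomm : g * ((c₁ : G)⁻¹ * (c₂ : G)) = ((c₁ : G)⁻¹ * (c₂ : G)) * g := by
      have hc : ((c₁ : G)⁻¹ * (c₂ : G)) ∈ Subgroup.centralizer ({g} : Set G) :=
        (Subgroup.centralizer ({g} : Set G)).mul_mem
          ((Subgroup.centralizer ({g} : Set G)).inv_mem c₁.2) c₂.2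
      rw [Subgroup.mem_centralizer_iff] at hc
      exact hc g (Set.mem_singleton g)
    have h1 := hfix _ h12' hcomm
    apply Subtype.ext
    exact inv_mul_eq_one.mp h1
  have h1 : Nat.card (Subgroup.centralizer ({g} : Set G)) ≤ Nat.card (G ⧸ D) :=
    Nat.card_le_card_of_injective _ hinj
  have h2 : Nat.card (G ⧸ D) = D.index := (Subgroup.index_eq_card D).symm
  have h3 : D.index ∣ (commutator G).index := Subgroup.index_dvd_of_le hGD
  have h4 : (commutator G).index ≠ 0 := Subgroup.index_ne_zero_of_finite
  have h5 : D.index ≤ (commutator G).index := Nat.le_of_dvd (Nat.pos_of_ne_zero h4) h3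
  omega

end Cfsg.Agent.Lib.Helper24.CM
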