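import Mathlib
import Cfsg.Prelude.Def_Characters
import Cfsg.Agent.Lib.Helper24.CM.Defs

/-!
# S4756 farm, leaf L32 (architect helper24)

Keep the name, namespace and statement of `pair_not_mem` exactly; replace only the `sorry`
(auxiliary lemmas with fresh names may be added above it in this file; extra imports of files
already on main are fine).
-/

set_option autoImplicit false

namespace Cfsg.Agent.Lib.Helper24.CM

open scoped ComplexConjugate commutatorElement

/-- [L32] For an admissible pair and a normal Sylow `p`-subgroup `P`: not both of `x`, `y` lie in `P`,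
and `x * y ∉ P`.  Proof: if `x ∈ P` then `orderOf x` is a power of `p`, and it is `r ^ a ≠ 1`, so `r = p`;
likewise for `y`; as `r ≠ s` not both lie in `P`.  If `x * y ∈ P` then in `G ⧸ P` the image of `x` is the
inverse of the image of `y`, so its order divides `gcd (r ^ a) (s ^ b) = 1`; thus `x ∈ P`, and then
`y ∈ P`, a contradiction. -/
theorem pair_not_mem {G : Type*} [Group G] [Finite G] (p : ℕ) [Fact p.Prime] (P : Sylow p G)
    (hPn : (P : Subgroup G).Normal) (x y : G) (hx : x ≠ 1) (hy : y ≠ 1) (hxy : CopPair x y) :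
    ¬ (x ∈ (P : Subgroup G) ∧ y ∈ (P : Subgroup G)) ∧ x * y ∉ (P : Subgroup G) := by
  have : (P : Subgroup G).Normal := hPn
  have hp : p.Prime := Fact.out
  obtain ⟨r, s, a, b, hr, hs, hrs, hxo, hyo⟩ := hxy
  -- a nonidentity element of `P` of order `r ^ a` forces `r = p`
  have key : ∀ (z : G) (t c : ℕ), t.Prime → z ≠ 1 → orderOf z = t ^ c → z ∈ (P : Subgroup G) →
      t = p := by
    intro z t c ht hz hzo hzP
    obtain ⟨k, hk⟩ := P.2 ⟨z, hzP⟩
    have hk' : z ^ (p ^ k) = 1 := by
      have := congrArg Subtype.val hk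
      simpa using this
    have hdvd : t ^ c ∣ p ^ k := by
      rw [← hzo]
      exact orderOf_dvd_of_pow_eq_one hk'
    have hc : c ≠ 0 := by
      rintro rfl
      rw [pow_zero, orderOf_eq_one_iff] at hzo
      exact hz hzo
    have h1 : t ∣ p ^ k := dvd_trans (dvd_pow_self t hc) hdvd
    exact (Nat.prime_dvd_prime_iff_eq ht hp).mp (ht.dvd_of_dvd_pow h1)
  have part1 : ¬ (x ∈ (P : Subgroup G) ∧ y ∈ (P : Subgroup G)) := by
    rintro ⟨hxP, hyP⟩
    exact hrs ((key x r a hr hx hxo hxP).trans (key y s b hs hy hyo hyP).symm)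
  refine ⟨part1, ?_⟩
  intro hxyP
  have h1 : (QuotientGroup.mk x : G ⧸ (P : Subgroup G)) * QuotientGroup.mk y = 1 := by
    rw [← QuotientGroup.mk_mul]
    exact (QuotientGroup.eq_one_iff _).mpr hxyP
  have h2 : (QuotientGroup.mk x : G ⧸ (P : Subgroup G)) = (QuotientGroup.mk y)⁻¹ :=
    eq_inv_of_mul_eq_one_left h1
  have d1 : orderOf (QuotientGroup.mk x : G ⧸ (P : Subgroup G)) ∣ r ^ a := by
    rw [← hxo]
    exact orderOf_dvd_of_pow_eq_one (by rw [← QuotientGroup.mk_pow, pow_orderOf_eq_one]; rfl)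
  have d2 : orderOf (QuotientGroup.mk x : G ⧸ (P : Subgroup G)) ∣ s ^ b := by
    rw [h2, orderOf_inv, ← hyo]
    exact orderOf_dvd_of_pow_eq_one (by rw [← QuotientGroup.mk_pow, pow_orderOf_eq_one]; rfl)
  have hcop : Nat.Coprime (r ^ a) (s ^ b) :=
    Nat.Coprime.pow _ _ ((Nat.coprime_primes hr hs).mpr hrs)
  have h3 : orderOf (QuotientGroup.mk x : G ⧸ (P : Subgroup G)) = 1 :=
    Nat.eq_one_of_dvd_coprimes hcop d1 d2
  have hxP : x ∈ (P : Subgroup G) := by
    rw [orderOf_eq_one_iff] at h3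
    exact (QuotientGroup.eq_one_iff _).mp h3
  have hyP : y ∈ (P : Subgroup G) := by
    have : y = x⁻¹ * (x * y) := by group
    rw [this]
    exact (P : Subgroup G).mul_mem ((P : Subgroup G).inv_mem hxP) hxyP
  exact part1 ⟨hxP, hyP⟩

end Cfsg.Agent.Lib.Helper24.CM
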