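import Mathlib
import Cfsg.Prelude.Def_Characters
import Cfsg.Agent.S4755
import Cfsg.Agent.Lib.Helper25.LinearChar
import Cfsg.Agent.Lib.Helper21.FrobTools
import Cfsg.Agent.Lib.Helper24.CM.Defs
import Cfsg.Agent.Lib.Helper24.CM.L01
import Cfsg.Agent.Lib.Helper24.CM.L02
import Cfsg.Agent.Lib.Helper24.CM.L03
import Cfsg.Agent.Lib.Helper24.CM.L04
import Cfsg.Agent.Lib.Helper24.CM.L05
import Cfsg.Agent.Lib.Helper24.CM.L06
import Cfsg.Agent.Lib.Helper24.CM.L07
import Cfsg.Agent.Lib.Helper24.CM.L08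
import Cfsg.Agent.Lib.Helper24.CM.L11
import Cfsg.Agent.Lib.Helper24.CM.L12
import Cfsg.Agent.Lib.Helper24.CM.L13
import Cfsg.Agent.Lib.Helper24.CM.L14
import Cfsg.Agent.Lib.Helper24.CM.L15
import Cfsg.Agent.Lib.Helper24.CM.L16
import Cfsg.Agent.Lib.Helper24.CM.L17
import Cfsg.Agent.Lib.Helper24.CM.L18
import Cfsg.Agent.Lib.Helper24.CM.L19
import Cfsg.Agent.Lib.Helper24.CM.L20
import Cfsg.Agent.Lib.Helper24.CM.L21
import Cfsg.Agent.Lib.Helper24.CM.L22
import Cfsg.Agent.Lib.Helper24.CM.L24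
import Cfsg.Agent.Lib.Helper24.CM.L25
import Cfsg.Agent.Lib.Helper24.CM.L26
import Cfsg.Agent.Lib.Helper24.CM.L27
import Cfsg.Agent.Lib.Helper24.CM.L28
import Cfsg.Agent.Lib.Helper24.CM.L29
import Cfsg.Agent.Lib.Helper24.CM.L30
import Cfsg.Agent.Lib.Helper24.CM.L31
import Cfsg.Agent.Lib.Helper24.CM.L32

/-!
# S4756: assembly (architect helper24)
-/

set_option autoImplicit false

namespace Cfsg.Agent.Lib.Helper24.CM

open scoped ComplexConjugate commutatorElement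

/-- Under (1), in a nonabelian group there is one prime `p` such that every nonlinear irreducible
character vanishes at all nonidentity elements of prime power order for primes other than `p`. -/
theorem exists_prime_vanishOff {G : Type*} [Group G] [Finite G] (h : Hyp1 G)
    (hna : ¬ IsMulCommutative G) :
    ∃ p : ℕ, p.Prime ∧ ∀ χ : Cfsg.IrrCharacter G, (χ : G → ℂ) 1 ≠ 1 →
      VanishOff (χ : G → ℂ) p := by
  obtain ⟨χ₀, hχ₀⟩ := exists_nonlinear hna
  obtain ⟨p, hp, hv₀⟩ := exists_vanishOff h χ₀ hχ₀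
  refine ⟨p, hp, fun ψ hψ => ?_⟩
  obtain ⟨q, hq, hvq⟩ := exists_vanishOff h ψ hψ
  have h1 := ordCompl_lt_ordProj χ₀ hχ₀ p hp hv₀
  have h2 := ordCompl_lt_ordProj ψ hψ q hq hvq
  have hpq : p = q := ordProj_unique (Nat.card G) p q Nat.card_pos hp hq h1 h2
  rw [hpq]
  exact hvq

/-- The forward direction of S4756. -/
theorem forward {G : Type*} [Group G] [Finite G] (h : Hyp1 G)
    (hnp : ¬ ∃ p : ℕ, p.Prime ∧ IsPGroup p G) (hna : ¬ IsMulCommutative G) :
    ∃ (p : ℕ) (_ : Fact p.Prime) (P : Sylow p G) (A : Subgroup G), (P : Subgroup G).Normal ∧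
      IsCyclic ↥A ∧ A ≠ ⊥ ∧ (Nat.card ↥A).Coprime p ∧ A ⊔ (P : Subgroup G) = ⊤ ∧
      IsMulCommutative ↥((P : Subgroup G) ⊓ Subgroup.centralizer (A : Set G)) ∧
      (⁅A, (P : Subgroup G)⁆).Normal ∧
      ((P : Subgroup G) ⊓ Subgroup.centralizer (A : Set G)) ⊔ ⁅A, (P : Subgroup G)⁆ =
        (P : Subgroup G) ∧
      ((P : Subgroup G) ⊓ Subgroup.centralizer (A : Set G)) ⊓ ⁅A, (P : Subgroup G)⁆ = ⊥ ∧
      ∀ a ∈ A, a ≠ 1 → ∀ d ∈ ⁅A, (P : Subgroup G)⁆, a * d = d * a → d = 1 := by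
  obtain ⟨p, hp, hvan⟩ := exists_prime_vanishOff h hna
  have hpF : Fact p.Prime := ⟨hp⟩
  -- centralizer orders
  have hcard : ∀ (y : G) (q b : ℕ), y ≠ 1 → q.Prime → q ≠ p → orderOf y = q ^ b →
      Nat.card (Subgroup.centralizer ({y} : Set G)) = (commutator G).index := by
    intro y q b hy1 hq hqp hyo
    apply Cfsg.Agent.S4755.card_centralizer_of_vanish
    intro χ hχ
    exact hvan χ hχ y q b hy1 hq hqp hyo
  have hG'p : IsPGroup p (commutator G) := commutator_isPGroup p hcard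
  obtain ⟨P, hPn, hG'P⟩ := exists_normal_sylow p hG'p
  obtain ⟨A, hcop, hAP, hAP0, hAc⟩ := exists_complement p P hPn hG'P
  -- A is nontrivial
  have hA1 : A ≠ ⊥ := by
    intro hA
    apply hnp
    refine ⟨p, hp, ?_⟩
    rw [hA, bot_sup_eq] at hAP
    have hP := P.isPGroup'
    rw [hAP] at hP
    intro g
    obtain ⟨k, hk⟩ := hP ⟨g, Subgroup.mem_top g⟩
    refine ⟨k, ?_⟩
    have := congrArg Subtype.val hk
    simpa using this
  -- a nonidentity element of prime order in A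
  obtain ⟨a₀, ha₀A, ha₀1⟩ : ∃ a ∈ A, a ≠ 1 := by
    by_contra hcon
    apply hA1
    rw [Subgroup.eq_bot_iff_forall]
    intro a ha
    by_contra ha1
    exact hcon ⟨a, ha, ha1⟩
  obtain ⟨k₀, q₀, hq₀, hq₀p, ho₀⟩ := exists_prime_order_pow p A hcop a₀ ha₀A ha₀1
  set y := a₀ ^ k₀ with hy
  have hyA : y ∈ A := Subgroup.pow_mem A ha₀A k₀
  have hy1 : y ≠ 1 := by
    intro h1
    rw [h1, orderOf_one, pow_one] at ho₀
    exact hq₀.one_lt.ne' ho₀.symm
  have hycard := hcard y q₀ 1 hy1 hq₀ hq₀p ho₀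
  have hfixy : ∀ t ∈ commutator G, t * y = y * t → t = 1 := fun t ht hty =>
    commute_commutator_eq_one p hG'p y q₀ 1 hq₀ hq₀p ho₀ hycard t ht hty
  have hform := mem_commutator_form (P : Subgroup G) A hPn hAP hAc y hyA hycard
  have hD : ⁅A, (P : Subgroup G)⁆ = commutator G :=
    commutator_AP_eq (P : Subgroup G) A y hyA hform
  have hcent := mem_centralizer_of_commute A hAc y hyA hfixy
  have hdecomp := exists_mul_decomp (P : Subgroup G) A hG'P y hyA hfixy hcent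
  have hinf := inf_commutator_eq_bot (P : Subgroup G) A y hyA hfixy
  have hCcomm := isMulCommutative_of_inf _ hinf
  -- fixed-point-freeness
  have hfpf : ∀ a ∈ A, a ≠ 1 → ∀ d ∈ commutator G, a * d = d * a → d = 1 := by
    intro a haA ha1 d hd had
    obtain ⟨k, q, hq, hqp, ho⟩ := exists_prime_order_pow p A hcop a haA ha1
    have hz1 : a ^ k ≠ 1 := by
      intro h1
      rw [h1, orderOf_one, pow_one] at ho
      exact hq.one_lt.ne' ho.symm
    have hzc := hcard (a ^ k) q 1 hz1 hq hqp ho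
    have hcomm : d * a ^ k = a ^ k * d := by
      have hc : Commute a d := had
      exact (hc.pow_left k).eq.symm
    exact commute_commutator_eq_one p hG'p (a ^ k) q 1 hq hqp ho hzc d hd hcomm
  -- the commutator subgroup is nontrivial
  have hG'1 : commutator G ≠ ⊥ := by
    intro hbot
    apply hna
    refine ⟨⟨fun a b => ?_⟩⟩
    have hmem : ⁅a, b⁆ ∈ commutator G := by
      rw [commutator_def]
      exact Subgroup.commutator_mem_commutator (Subgroup.mem_top a) (Subgroup.mem_top b)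
    rw [hbot, Subgroup.mem_bot, commutatorElement_eq_one_iff_mul_comm] at hmem
    exact hmem
  -- A is cyclic
  have hcyc : IsCyclic ↥A := by
    apply Cfsg.Agent.Lib.Helper21.FrobTools.isCyclic_of_comm_fpf A (commutator G) hAc hG'1
    · rw [Subgroup.normalizer_eq_top]
      exact le_top
    · obtain ⟨n, hn⟩ := IsPGroup.iff_card.mp hG'p
      rw [hn]
      exact Nat.Coprime.pow_right n hcop
    · exact hfpf
  refine ⟨p, ⟨hp⟩, P, A, hPn, hcyc, hA1, hcop, hAP, hCcomm, ?_, ?_, ?_, ?_⟩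
  · rw [hD]
    infer_instance
  · rw [hD]
    apply le_antisymm
    · exact sup_le inf_le_left hG'P
    · intro u hu
      obtain ⟨c, hc, d, hd, rfl⟩ := hdecomp u hu
      exact Subgroup.mul_mem _ (Subgroup.mem_sup_left hc) (Subgroup.mem_sup_right hd)
  · rw [hD]
    exact hinf
  · rw [hD]
    exact hfpf

/-- The structured case of the reverse direction of S4756. -/
theorem reverse_structured {G : Type*} [Group G] [Finite G] (p : ℕ) [Fact p.Prime]
    (P : Sylow p G) (A : Subgroup G) (hPn : (P : Subgroup G).Normal) (hcyc : IsCyclic ↥A)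
    (hcop : (Nat.card ↥A).Coprime p) (hAP : A ⊔ (P : Subgroup G) = ⊤)
    (hCc : IsMulCommutative ↥((P : Subgroup G) ⊓ Subgroup.centralizer (A : Set G)))
    (hDn : (⁅A, (P : Subgroup G)⁆).Normal)
    (hCD : ((P : Subgroup G) ⊓ Subgroup.centralizer (A : Set G)) ⊔ ⁅A, (P : Subgroup G)⁆ =
        (P : Subgroup G))
    (hfpf : ∀ a ∈ A, a ≠ 1 → ∀ d ∈ ⁅A, (P : Subgroup G)⁆, a * d = d * a → d = 1) :
    Hyp1 G := by
  set C : Subgroup G := (P : Subgroup G) ⊓ Subgroup.centralizer (A : Set G) with hC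
  set D : Subgroup G := ⁅A, (P : Subgroup G)⁆ with hDdef
  have hAc : ∀ a ∈ A, ∀ b ∈ A, a * b = b * a := by
    intro a ha b hb
    obtain ⟨g, hg⟩ := hcyc.exists_generator
    obtain ⟨m, hm⟩ := Subgroup.mem_zpowers_iff.1 (hg ⟨a, ha⟩)
    obtain ⟨n, hn⟩ := Subgroup.mem_zpowers_iff.1 (hg ⟨b, hb⟩)
    have h1 : (⟨a, ha⟩ : A) * ⟨b, hb⟩ = ⟨b, hb⟩ * ⟨a, ha⟩ := by
      rw [← hm, ← hn]
      exact (Commute.zpow_zpow_self g m n).eq
    exact congrArg Subtype.val h1
  have hCcomm : ∀ a ∈ C, ∀ b ∈ C, a * b = b * a := by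
    intro a ha b hb
    have h1 : (⟨a, ha⟩ : C) * ⟨b, hb⟩ = ⟨b, hb⟩ * ⟨a, ha⟩ := hCc.is_comm.comm _ _
    exact congrArg Subtype.val h1
  have hCA : C ≤ Subgroup.centralizer (A : Set G) := inf_le_right
  have hG'D : commutator G ≤ D :=
    commutator_le_of_structure (P : Subgroup G) A C D hPn hDn hAP hCD hAc hCcomm hCA
  -- elements of C have p-power order
  obtain ⟨k, hk⟩ := IsPGroup.iff_card.mp P.isPGroup'
  have hfix : ∀ a ∈ A, a ≠ 1 → ∀ c ∈ C, ∀ d ∈ D, (a * c) * d = d * (a * c) → d = 1 := by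
    intro a ha ha1 c hc d hd hcomm
    have hcP : c ∈ (P : Subgroup G) := hc.1
    have hck : c ^ (p ^ k) = 1 := by
      have h1 : (⟨c, hcP⟩ : (P : Subgroup G)) ^ (p ^ k) = 1 := by
        rw [← hk]
        exact pow_card_eq_one'
      have := congrArg Subtype.val h1
      simpa using this
    have hac : a * c = c * a := (Subgroup.mem_centralizer_iff.1 (hCA hc)) a ha
    exact fpf_mul p A D hcop hfpf a ha ha1 c k hck hac d hd hcomm
  intro x y χ hx hy hxy
  by_cases hχ : (χ : G → ℂ) 1 = 1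
  · exact Cfsg.Agent.Lib.Helper25.linear_char_mul
      (Cfsg.Agent.Lib.Helper25.isCharacter_of_irr χ.2) hχ x y
  · have hvan : ∀ g : G, g ∉ (P : Subgroup G) → (χ : G → ℂ) g = 0 := by
      intro g hg
      apply vanish_of_card_le g _ χ hχ
      apply card_centralizer_le D hDn hG'D g
      intro d hd hgd
      exact commute_D_eq_one (P : Subgroup G) A C D hPn hDn hAP hCD hfix g hg d hd hgd
    obtain ⟨hnot, hxyP⟩ := pair_not_mem p P hPn x y hx hy hxy
    rw [hvan _ hxyP]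
    by_cases hxP : x ∈ (P : Subgroup G)
    · have hyP : y ∉ (P : Subgroup G) := fun hyP => hnot ⟨hxP, hyP⟩
      rw [hvan y hyP, mul_zero]
    · rw [hvan x hxP, zero_mul]

/-- Condition (1) holds in an abelian group. -/
theorem hyp1_of_comm {G : Type*} [Group G] [Finite G] (hc : IsMulCommutative G) : Hyp1 G := by
  intro x y χ _ _ _
  exact Cfsg.Agent.Lib.Helper25.linear_char_mul
    (Cfsg.Agent.Lib.Helper25.isCharacter_of_irr χ.2) (irr_linear_of_comm hc χ) x y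

/-- S4756. -/
theorem main {G : Type*} [Group G] [Finite G] : (∀ (x y : G) (χ : Cfsg.IrrCharacter G), x ≠ 1 → y ≠ 1 → (∃ p q a b : ℕ, p.Prime ∧ q.Prime ∧ p ≠ q ∧ orderOf x = p ^ a ∧ orderOf y = q ^ b) → (χ : G → ℂ) (x * y) = (χ : G → ℂ) x * (χ : G → ℂ) y) ↔ ((∃ p : ℕ, p.Prime ∧ IsPGroup p G) ∨ IsMulCommutative G ∨ ∃ (p : ℕ) (_ : Fact p.Prime) (P : Sylow p G) (A : Subgroup G), (P : Subgroup G).Normal ∧ IsCyclic ↥A ∧ A ≠ ⊥ ∧ (Nat.card ↥A).Coprime p ∧ A ⊔ (P : Subgroup G) = ⊤ ∧ IsMulCommutative ↥((P : Subgroup G) ⊓ Subgroup.centralizer (A : Set G)) ∧ (⁅A, (P : Subgroup G)⁆).Normal ∧ ((P : Subgroup G) ⊓ Subgroup.centralizer (A : Set G)) ⊔ ⁅A, (P : Subgroup G)⁆ = (P : Subgroup G) ∧ ((P : Subgroup G) ⊓ Subgroup.centralizer (A : Set G)) ⊓ ⁅A, (P : Subgroup G)⁆ = ⊥ ∧ ∀ a ∈ A, a ≠ 1 → ∀ d ∈ ⁅A, (P : Subgroup G)⁆, a * d = d * a → d = 1) := by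
  constructor
  · intro h
    have h1 : Hyp1 G := h
    by_cases hnp : ∃ p : ℕ, p.Prime ∧ IsPGroup p G
    · exact Or.inl hnp
    · by_cases hna : IsMulCommutative G
      · exact Or.inr (Or.inl hna)
      · exact Or.inr (Or.inr (forward h1 hnp hna))
  · rintro (⟨p, hp, hG⟩ | hc | ⟨p, hpF, P, A, hPn, hcyc, _, hcop, hAP, hCc, hDn, hCD, _, hfpf⟩)
    · exact hyp1_of_isPGroup p hp hG
    · exact hyp1_of_comm hc
    · exact reverse_structured p P A hPn hcyc hcop hAP hCc hDn hCD hfpf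

end Cfsg.Agent.Lib.Helper24.CM
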